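import Cfsg.Agent.H68.ShortU4.Model

/-!
The Levi group and the reflection generate `SU₄(q)`, and satisfy the relations.
-/

set_option autoImplicit false
set_option linter.unusedSectionVars false

namespace Cfsg.Agent.H68.ShortU4

open Cfsg Matrix Cfsg.Agent.Unitary Cfsg.Agent.H99.ShortPres

variable {F : Type*} [Field F] [Fintype F] {q : ℕ} (T : Fr F q)
  (S : Setting F q (SU 4 F q)) (hθ : S.θ = T.fm)
include hθ

theorem gens_top : Subgroup.closure ((S.A.range : Set (SU 4 F q)) ∪ {S.s}) = ⊤ := by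
  set H := Subgroup.closure ((S.A.range : Set (SU 4 F q)) ∪ {S.s})
  have hA : ∀ g, S.A g ∈ H := fun g => Subgroup.subset_closure (Or.inl ⟨g, rfl⟩)
  have hs : S.s ∈ H := Subgroup.subset_closure (Or.inr rfl)
  have hF := S.hF
  rw [eq_top_iff, ← tgroup_eq_top hF (Or.inl le_rfl), tgroup, Subgroup.closure_le]
  rintro B ⟨v, c, hv, hB⟩
  rcases eq_or_ne v 0 with rfl | hv0
  · have : B = 1 := by
      refine ap_ext fun x => ?_
      rw [ap_def, hB, unitaryTransvection_mulVec, smul_zero, add_zero, ap_one]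
    rw [this]
    exact one_mem H
  obtain ⟨h, hh, he⟩ := exists_to_first T S hθ hA hs hv0 hv
  suffices hc : h * B * h⁻¹ ∈ H by
    have := mul_mem (mul_mem (inv_mem hh) hc) hh
    rwa [show h⁻¹ * (h * B * h⁻¹) * h = B by group] at this
  have hd : S.θ (h * B * h⁻¹) = Qmat q S.δ (c * S.δ) 0 0 := by
    rw [hθ]
    refine Matrix.ext_iff_mulVec.2 fun x => ?_
    have h1 : ap (h * B * h⁻¹) (T.P *ᵥ x) =
        T.P *ᵥ x + (c * hermForm 4 F q (T.P *ᵥ x) (T.P *ᵥ ![1, 0, 0, 0])) •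
          (T.P *ᵥ ![1, 0, 0, 0]) := by
      rw [ap_mul, ap_mul, ap_def B, hB, unitaryTransvection_mulVec, ap_add, ap_ap_inv, ap_smul,
        he, ← he, herm_ap_right]
    rw [T.ap_P, T.herm_P, ← mulVec_smul, ← mulVec_add] at h1
    have h2 := congrArg (fun v => T.Q *ᵥ v) h1
    simp only [mulVec_mulVec, ← Matrix.mul_assoc, T.Q_P, Matrix.one_mul, one_mulVec] at h2
    rw [h2]
    funext i
    fin_cases i <;>
      simp [Qmat, Jmat, cj, Matrix.mulVec, dotProduct, Fin.sum_univ_four, q_ne_zero hF,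
        S.δ_ne]
  have hr : (c * S.δ) ^ q = c * S.δ := by
    have hp : Pres q (S.θ (h * B * h⁻¹)) := hθ ▸ T.fm_pres _
    rw [hd, Pres] at hp
    have e := congrFun (congrFun hp 2) 2
    simp [Qmat, Jmat, Matrix.mul_apply, Fin.sum_univ_four, q_ne_zero hF, S.δ_ne] at e
    rw [mul_pow, S.δ_skew]
    linear_combination (-S.δ) * e
  have : h * B * h⁻¹ = S.ψ (c * S.δ) := T.fm_inj (by
    rw [← hθ, hd, S.θ_ψ hr])
  rw [this]
  simp only [Setting.ψ, Setting.y]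
  exact mul_mem (mul_mem (mul_mem (hA _) (mul_mem (mul_mem hs (hA _)) (inv_mem hs)))
    (inv_mem (hA _))) (inv_mem (mul_mem (mul_mem hs (hA _)) (inv_mem hs)))

theorem θ_cancel {g g' : SU 4 F q} (e : S.θ g = S.θ g') : g = g' := T.fm_inj (by rw [← hθ, e])

theorem θ_comm {g g' : SU 4 F q} (e : S.θ g * S.θ g' = S.θ g' * S.θ g) : Commute g g' :=
  θ_cancel T S hθ (by rw [map_mul, map_mul, e])

omit hθ in
theorem Dmat_pow (hF : Fintype.card F = q ^ 2) (x y : F) (k : ℕ) : Dmat q x y ^ k = Dmat q (x ^ k) (y ^ k) := by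
  induction k with
  | zero => rw [pow_zero, pow_zero, pow_zero, Dmat_one hF]
  | succ k ih => rw [pow_succ, ih, Dmat_mul, pow_succ, pow_succ]

theorem exists_minus : ∃ i j : ℕ, S.θ (S.a ^ i * S.b ^ j) = Dmat q 1 (-1) := by
  obtain ⟨x, hx⟩ := exists_norm_eq_neg_one S.hF
  have hx0 : x ≠ 0 := by rintro rfl; simp at hx
  obtain ⟨j, hj⟩ := mem_powers_iff_mem_zpowers.2 (S.ω_gen (Units.mk0 x hx0))
  obtain ⟨i, hi⟩ := mem_powers_iff_mem_zpowers.2 (S.ω_gen (Units.mk0 x hx0)⁻¹)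
  have hj' : (S.ω : F) ^ j = x := by simpa using congrArg Units.val hj
  have hi' : (S.ω : F) ^ i = x⁻¹ := by simpa using congrArg Units.val hi
  refine ⟨i, j, ?_⟩
  rw [map_mul, map_pow, map_pow, S.θ_a, S.θ_b, Dmat_pow S.hF, Dmat_pow S.hF, Dmat_mul, inv_pow,
    pow_right_comm _ q j, hi', hj', inv_inv, inv_mul_cancel₀ hx0, hx]

theorem rels_model : Rels S := by
  have hF := S.hF
  have hδ := S.δ_ne
  have hw : (S.ω : F) ≠ 0 := S.ω.ne_zero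
  have hone : (1 : F) ^ q = 1 := one_pow q
  obtain ⟨i, j, hij⟩ := exists_minus T S hθ
  have hn : (S.ω : F) * (S.ω : F) ^ q ≠ 0 := mul_ne_zero hw (pow_ne_zero _ hw)
  have hwq : ((S.ω : F) ^ (q - 1)) ^ q = ((S.ω : F) ^ (q - 1))⁻¹ := by
    refine eq_inv_of_mul_eq_one_left ?_
    rw [pow_right_comm, ← mul_pow, mul_comm]
    exact pow_sub_one_eq_one hF hn (norm_pow_q hF _)
  refine ⟨θ_comm T S hθ ?_, θ_comm T S hθ ?_, θ_cancel T S hθ ?_, θ_cancel T S hθ ?_,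
    ⟨i, j, θ_cancel T S hθ ?_⟩, θ_comm T S hθ ?_, θ_comm T S hθ ?_, θ_cancel T S hθ ?_,
    θ_cancel T S hθ ?_, θ_comm T S hθ ?_, θ_comm T S hθ ?_, θ_cancel T S hθ ?_,
    θ_cancel T S hθ ?_, ⟨i, j, θ_cancel T S hθ ?_⟩, θ_comm T S hθ ?_⟩
  · -- e0
    have e : Smat S.δ * Dmat q ((S.ω : F) ^ (q - 1)) ((S.ω : F)⁻¹ ^ (q - 1)) * SmatI S.δ =
        Dmat q ((S.ω : F) ^ (q - 1)) ((S.ω : F)⁻¹ ^ (q - 1)) := by
      rw [Smat_Dmat hF hδ, inv_pow, inv_pow, hwq, inv_inv]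
    rw [map_pow, S.θ_a, Dmat_pow S.hF, S.θ_s]
    conv_rhs => rw [← e]
    rw [Matrix.mul_assoc _ (SmatI S.δ), ← S.θ_s_inv, ← S.θ_s, S.θ_inv_mul, Matrix.mul_one]
  · -- e1
    rw [S.θ_a, S.θ_b, Dmat_mul, Dmat_mul, mul_comm, mul_comm ((S.ω : F)⁻¹)]
  · -- e2
    refine S.θ_conj ?_
    rw [S.θ_b, S.θ_A, S.θ_A, Dmat_up hF hw (pow_ne_zero _ hw), mul_one]
  · -- e2b
    refine S.θ_conj ?_
    rw [S.θ_b, S.θ_A, S.θ_A]
    exact Dmat_wm hF hw (pow_ne_zero _ hw) _ (by simp)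
  · -- e3
    rw [map_mul, S.θ_s, Smat_sq hδ hF, hij]
  · -- e5
    rw [S.θ_z, S.θ_A, Lmat_up hF]
    ext a b
    fin_cases a <;> fin_cases b <;>
      simp [Qmat, Matrix.mul_apply, Fin.sum_univ_four, q_ne_zero hF]
  · -- e5'
    rw [S.θ_z, S.θ_A, Lmat_up hF]
    ext a b
    fin_cases a <;> fin_cases b <;>
      simp [Qmat, Matrix.mul_apply, Fin.sum_univ_four, q_ne_zero hF]
  · -- e6
    rw [S.θ_ψ (norm_pow_q hF _)]
    refine S.θ_conj ?_
    rw [S.θ_a, S.θ_z, Dmat_Qmat hF hw (inv_ne_zero hw), mul_one, mul_zero, mul_zero]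
  · -- e7
    have h1 : S.θ (S.a * S.z * S.a⁻¹) = Qmat q S.δ ((S.ω : F) * (S.ω : F) ^ q) 0 0 := by
      refine S.θ_conj ?_
      rw [S.θ_a, S.θ_z, Dmat_Qmat hF hw (inv_ne_zero hw), mul_one, mul_zero, mul_zero]
    rw [h1]
    refine S.θ_conj ?_
    rw [S.θ_b, S.θ_z, Dmat_Qmat hF hw (pow_ne_zero _ hw), mul_one, mul_zero, mul_zero]
  · -- e8
    rw [S.θ_s, S.θ_z, Smat_z1 hF hδ]
  · -- e9
    rw [S.θ_A, S.θ_y, up_y hF hδ, one_pow, one_mul, one_mul, S.δ_skew, neg_add_cancel,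
      Qmat_zero hF, Matrix.one_mul]
  · -- e10
    rw [S.θ_y]
    refine S.θ_conj ?_
    rw [S.θ_A, S.θ_y, wm_Qmat hF, one_pow]
  · -- e11
    have h1 : S.θ (S.z2 * S.y 1 * S.z) = Qmat q S.δ 1 1 1 := by
      rw [map_mul, map_mul, S.θ_z2, S.θ_y, S.θ_z, Qmat_mul hF, Qmat_mul hF]
      simp
    rw [h1]
    refine S.θ_conj ?_
    rw [S.θ_A, S.θ_z2, (up_z2 hF hδ 1 1).resolve_right (not_not.2 hone), one_pow, one_mul, one_mul]
  · -- e12
    have hz : S.θ S.z2⁻¹ = Qmat q S.δ 0 0 (-1) := by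
      rw [← Matrix.one_mul (S.θ S.z2⁻¹), ← Qmat_zero (q := q) (δ := S.δ) hF]
      have e : Qmat q S.δ (0 : F) 0 0 = Qmat q S.δ 0 0 (-1) * S.θ S.z2 := by
        rw [S.θ_z2, Qmat_mul hF]; simp
      rw [e, Matrix.mul_assoc, ← map_mul, mul_inv_cancel, map_one, Matrix.mul_one]
    rw [map_mul, map_mul, S.θ_s, S.θ_s_inv, S.θ_z2, s_z2 hF hδ]
    simp only [map_mul] at hij ⊢
    rw [hz, hij, S.θ_s]
  · -- e13
    rw [map_mul, map_mul, S.θ_s, S.θ_A, wwm hF hδ]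

end Cfsg.Agent.H68.ShortU4
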