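import Cfsg.Agent.H68.ShortU4.Radical

/-!
The three double cosets of the parabolic subgroup exhaust a group satisfying the relations, so the
map to the matrix model has trivial kernel.
-/

set_option autoImplicit false
set_option linter.unusedSectionVars false

namespace Cfsg.Agent.H68.ShortU4

open Matrix Cfsg.Agent.Unitary Cfsg.Agent.H99.ShortPres

variable {F : Type*} [Field F] [Fintype F] {q : ℕ} {G : Type*} [Group G]

local notation "SL2" => Matrix.SpecialLinearGroup (Fin 2) F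

namespace Rels

variable {S : Setting F q G} (R : Rels S)
include R

theorem urad_par {g : G} (hg : g ∈ R.urad) : g ∈ R.par := by
  obtain ⟨a, c, w, hw, rfl⟩ := hg
  exact mul_mem (mul_mem (R.levi_par (R.A_levi _)) (R.qrad_par (R.y_mem_qrad c)))
    (R.qrad_par (R.Zw_mem_qrad hw))

theorem qrad_swap {g : G} (hg : g ∈ R.qrad) : ∃ c, ∃ w ∈ S.zw, ∃ v ∈ S.zw,
    g = (S.A wm * v * (S.A wm)⁻¹) * (S.y c * w) := by
  obtain ⟨c, w, hw, v, hv, rfl⟩ := hg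
  exact ⟨c, w, hw, v, hv,
    ((R.y_comm_z2w c hv).mul_left (R.Zw_comm_z2w hw hv)).eq⟩

theorem y_Zw_urad (c : F) {w : G} (hw : w ∈ S.zw) : S.y c * w ∈ R.urad :=
  mul_mem (R.y_mem_urad c) (R.Zw_mem_urad hw)

theorem s_inv_y_Zw (c : F) {w : G} (hw : w ∈ S.zw) :
    ∃ c', S.s⁻¹ * (S.y c * w) * S.s = S.A (up c') * w := by
  refine ⟨c, ?_⟩
  rw [Setting.y]
  have := (R.s_comm_Zw hw).eq
  calc S.s⁻¹ * (S.s * S.A (up c) * S.s⁻¹ * w) * S.s = S.A (up c) * S.s⁻¹ * (w * S.s) := by group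
    _ = _ := by rw [← this]; group

theorem wm_Zw_z2w {w : G} (hw : w ∈ S.zw) :
    ∃ v ∈ S.zw, (S.A wm)⁻¹ * w * S.A wm = S.A wm * v * (S.A wm)⁻¹ :=
  ⟨_, R.Zw_tor (inv_mem R.wm_sq_mem) hw, by group⟩

theorem wm_z2w {v : G} (hv : v ∈ S.zw) :
    ∃ w ∈ S.zw, S.A wm * (S.A wm * v * (S.A wm)⁻¹) = w * S.A wm :=
  ⟨_, R.Zw_tor R.wm_sq_mem hv, by group⟩

theorem s_z2w {v : G} (hv : v ∈ S.zw) (hne : v ≠ 1) :
    ∃ va ∈ S.zw, ∃ vb ∈ S.zw, ∃ d ∈ R.tor,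
      S.s * (S.A wm * v * (S.A wm)⁻¹) * S.s =
        (S.A wm * va * (S.A wm)⁻¹) * S.s * d * (S.A wm * vb * (S.A wm)⁻¹) := by
  obtain ⟨i, j, h12⟩ := R.e12
  set D := S.a ^ i * S.b ^ j
  have hD : D ∈ R.tor := mul_mem (pow_mem R.a_mem i) (pow_mem R.b_mem j)
  have hz2 : S.z2 = S.A wm * S.z * (S.A wm)⁻¹ := rfl
  obtain ⟨vb0, hvb0, eb0⟩ := R.tor_z2w (inv_mem R.s_sq_mem) (inv_mem R.z_mem_Zw)
  have base : S.s * S.z2 * S.s =
      (S.A wm * S.z⁻¹ * (S.A wm)⁻¹) * S.s * (D * (S.s * S.s)) * (S.A wm * vb0 * (S.A wm)⁻¹) := by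
    rw [← eb0, show S.s * S.z2 * S.s = S.s * S.z2 * S.s⁻¹ * (S.s * S.s) by group, h12, hz2]
    simp only [_root_.mul_inv_rev, inv_inv, mul_assoc, inv_mul_cancel_left, mul_inv_cancel_left,
      inv_mul_cancel, mul_one]
  obtain ⟨r, hr, rfl⟩ := R.Zw_form hv
  have hr0 : r ≠ 0 := fun h => hne (by rw [h, R.ψ_zero])
  obtain ⟨t, ht⟩ := exists_norm_eq S.hF hr
  have ht0 : t ≠ 0 := by
    rintro rfl
    rw [zero_mul] at ht
    exact hr0 ht.symm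
  set g := S.A (dg (Units.mk0 t ht0)⁻¹) with hg_def
  have hg : g ∈ R.tor := R.dg_mem_tor _
  set g' := (S.A wm)⁻¹ * g * S.A wm with hg'_def
  have hg' : g' ∈ R.tor := R.wm_inv_conj_tor hg
  have hgw : g' = S.A (dg (Units.mk0 t ht0)) := by
    refine R.tor_eq hg' (R.dg_mem_tor _) ?_
    obtain ⟨u₁, u₂, -, -, -, eu⟩ := R.θ_tor hg'
    have e := congrArg S.θ (show S.A wm * g' = g * S.A wm by simp [g', mul_assoc])
    rw [map_mul S.θ (S.A wm) g', map_mul S.θ g (S.A wm), eu, hg_def, S.θ_A, S.θ_A,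
      Lmat_dg S.hF, Lmat_wm S.hF] at e
    have a01 := congrFun (congrFun e 0) 1
    have a10 := congrFun (congrFun e 1) 0
    simp [Dmat, Matrix.mul_apply, Fin.sum_univ_four] at a01 a10
    rw [eu, S.θ_A, Lmat_dg S.hF, Units.val_mk0, a01, a10]
  have hψ : g' * S.z * g'⁻¹ = S.ψ r := by
    obtain ⟨k, hk, ez⟩ := R.z_conj_pow hg'
      (show S.θ g' = Dmat q t t⁻¹ by rw [hgw, S.θ_A, Lmat_dg S.hF, Units.val_mk0])
    rw [ez, R.a_pow_z, mul_pow, pow_right_comm, hk, ht]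
  have hv' : S.A wm * S.ψ r * (S.A wm)⁻¹ = g * S.z2 * g⁻¹ := by
    rw [← hψ, hz2, hg'_def]; group
  set g1 := S.s * g * S.s⁻¹
  set g2 := S.s⁻¹ * g⁻¹ * S.s
  have hg1 : g1 ∈ R.tor := R.s_conj_tor hg
  have hg2 : g2 ∈ R.tor := R.s_inv_conj_tor (inv_mem hg)
  obtain ⟨va, hva, ea⟩ := R.tor_z2w hg1 (inv_mem R.z_mem_Zw)
  obtain ⟨vb, hvb, eb⟩ := R.tor_z2w (inv_mem hg2) hvb0
  refine ⟨va, hva, vb, hvb, (S.s⁻¹ * g1 * S.s) * (D * (S.s * S.s)) * g2,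
    mul_mem (mul_mem (R.s_inv_conj_tor hg1) (mul_mem hD R.s_sq_mem)) hg2, ?_⟩
  rw [hv', ← ea, ← eb, show S.s * (g * S.z2 * g⁻¹) * S.s = g1 * (S.s * S.z2 * S.s) * g2 by
    simp only [g1, g2]; group, base]
  group

theorem w_conj_levi {l : G} (hl : l ∈ S.A.range ⊔ R.tor) :
    (S.s * S.A wm * S.s)⁻¹ * l * (S.s * S.A wm * S.s) ∈ S.A.range ⊔ R.tor := by
  set w := S.s * S.A wm * S.s
  have hT : ∀ d ∈ R.tor, w⁻¹ * d * w ∈ R.tor := fun d hd => by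
    have := R.s_inv_conj_tor (R.wm_inv_conj_tor (R.s_inv_conj_tor hd))
    rwa [show S.s⁻¹ * ((S.A wm)⁻¹ * (S.s⁻¹ * d * S.s) * S.A wm) * S.s = w⁻¹ * d * w by
      simp only [w]; group] at this
  have hU : ∀ c, ∃ c', w⁻¹ * S.A (up c) * w = S.A (up c') := by
    intro c
    obtain ⟨c₁, hc₁⟩ := R.tor_conj_up (inv_mem R.s_sq_mem) c
    obtain ⟨c₂, hc₂⟩ : ∃ c₂, S.A (up c₁) = S.A (up (-(c₂ ^ q))) :=
      ⟨-(c₁ ^ q), by rw [neg_pow_q S.hF, pow_q_q S.hF, neg_neg]⟩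
    refine ⟨c₂, ?_⟩
    have e1 : S.s⁻¹ * S.A (up c) * S.s = S.y (-(c₂ ^ q)) := by
      rw [Setting.y, ← hc₂, ← hc₁]
      have hcm : (S.s * S.s)⁻¹ = S.s⁻¹ * S.s⁻¹ := _root_.mul_inv_rev _ _
      group
    have e2 : (S.A wm)⁻¹ * S.y (-(c₂ ^ q)) * S.A wm = S.y c₂ := by rw [← R.wm_y]; group
    calc w⁻¹ * S.A (up c) * w
        = S.s⁻¹ * ((S.A wm)⁻¹ * (S.s⁻¹ * S.A (up c) * S.s) * S.A wm) * S.s := by
          simp only [w]; group
      _ = _ := by rw [e1, e2, Setting.y]; group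
  have hW : w⁻¹ * S.A wm * w = S.A wm := by
    rw [mul_assoc, ← R.e13.eq, inv_mul_cancel_left]
  obtain ⟨k, d, hd, rfl⟩ := R.levi_form hl
  rw [show w⁻¹ * (S.A k * d) * w = (w⁻¹ * S.A k * w) * (w⁻¹ * d * w) by group]
  refine mul_mem ?_ (R.levi_tor (hT d hd))
  rcases sl_cases k with ⟨c, t, rfl⟩ | ⟨c, e, t, rfl⟩
  · obtain ⟨c', hc'⟩ := hU c
    rw [map_mul, show w⁻¹ * (S.A (up c) * S.A (dg t)) * w =
      (w⁻¹ * S.A (up c) * w) * (w⁻¹ * S.A (dg t) * w) by group, hc']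
    exact mul_mem (R.A_levi _) (R.levi_tor (hT _ (R.dg_mem_tor t)))
  · obtain ⟨c', hc'⟩ := hU c
    obtain ⟨e', he'⟩ := hU e
    rw [map_mul, map_mul, map_mul, show w⁻¹ * (S.A (up c) * S.A wm * (S.A (up e) * S.A (dg t))) * w =
      (w⁻¹ * S.A (up c) * w) * (w⁻¹ * S.A wm * w) *
        ((w⁻¹ * S.A (up e) * w) * (w⁻¹ * S.A (dg t) * w)) by group, hc', he', hW]
    exact mul_mem (mul_mem (R.A_levi _) (R.A_levi _))
      (mul_mem (R.A_levi _) (R.levi_tor (hT _ (R.dg_mem_tor t))))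

theorem up_z2w_s (c : F) {v : G} (hv : v ∈ S.zw) {p : G} (hp : p ∈ R.par) :
    ∃ v' ∈ S.zw, ∃ p' ∈ R.par, S.A (up c) * (S.A wm * v * (S.A wm)⁻¹) * S.s * p =
      (S.A wm * v' * (S.A wm)⁻¹) * S.s * p' := by
  obtain ⟨e, w, hw, v', hv', ex⟩ := R.qrad_swap (R.up_z2w c hv)
  refine ⟨v', hv', S.s⁻¹ * (S.y e * w * S.A (up c)) * S.s * p, mul_mem (R.urad_par
    (R.s_inv_urad (mul_mem (R.y_Zw_urad e hw) (R.up_mem_urad c)))) hp, ?_⟩
  calc S.A (up c) * (S.A wm * v * (S.A wm)⁻¹) * S.s * p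
      = (S.A (up c) * (S.A wm * v * (S.A wm)⁻¹) * (S.A (up c))⁻¹) * S.A (up c) * S.s * p := by
        group
    _ = _ := by rw [ex]; group

theorem tor_z2w_s {d : G} (hd : d ∈ R.tor) {v : G} (hv : v ∈ S.zw) {p : G} (hp : p ∈ R.par) :
    ∃ v' ∈ S.zw, ∃ p' ∈ R.par, d * (S.A wm * v * (S.A wm)⁻¹) * S.s * p =
      (S.A wm * v' * (S.A wm)⁻¹) * S.s * p' := by
  obtain ⟨v', hv', e⟩ := R.tor_z2w hd hv
  refine ⟨v', hv', S.s⁻¹ * d * S.s * p,
    mul_mem (R.levi_par (R.levi_tor (R.s_inv_conj_tor hd))) hp, ?_⟩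
  rw [← e]; group

/-- The three cells. -/
def InCell (g : G) : Prop :=
  g ∈ R.par ∨
    (∃ l ∈ S.A.range ⊔ R.tor, ∃ v ∈ S.zw, ∃ p ∈ R.par,
      g = l * (S.A wm * v * (S.A wm)⁻¹) * S.s * p) ∨
    ∃ x ∈ R.qrad, ∃ p ∈ R.par, g = x * (S.s * S.A wm * S.s) * p

theorem cell_levi {l : G} (hl : l ∈ S.A.range ⊔ R.tor) {g : G} (hg : R.InCell g) :
    R.InCell (l * g) := by
  rcases hg with hg | ⟨l', hl', v, hv, p, hp, rfl⟩ | ⟨x, hx, p, hp, rfl⟩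
  · exact Or.inl (mul_mem (R.levi_par hl) hg)
  · exact Or.inr (Or.inl ⟨l * l', mul_mem hl hl', v, hv, p, hp, by simp only [mul_assoc]⟩)
  · exact Or.inr (Or.inr ⟨l * x * l⁻¹, R.levi_qrad hl hx,
      (S.s * S.A wm * S.s)⁻¹ * l * (S.s * S.A wm * S.s) * p,
      mul_mem (R.levi_par (R.w_conj_levi hl)) hp, by group⟩)

theorem s_second (c : F) {v : G} (hv : v ∈ S.zw) {p : G} (hp : p ∈ R.par) :
    ∃ x ∈ R.qrad, ∃ p' ∈ R.par,
      S.s * (S.A (up c) * S.A wm * (S.A wm * v * (S.A wm)⁻¹) * S.s * p) =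
        x * (S.s * S.A wm * S.s) * p' := by
  obtain ⟨w, hw, ew⟩ := R.wm_z2w hv
  refine ⟨S.y c * w, mul_mem (R.y_mem_qrad c) (R.Zw_mem_qrad hw), p, hp, ?_⟩
  calc S.s * (S.A (up c) * S.A wm * (S.A wm * v * (S.A wm)⁻¹) * S.s * p)
      = S.s * S.A (up c) * (S.A wm * (S.A wm * v * (S.A wm)⁻¹)) * S.s * p := by
        simp only [mul_assoc]
    _ = S.y c * (S.s * w) * S.A wm * S.s * p := by rw [ew, Setting.y]; group
    _ = _ := by rw [(R.s_comm_Zw hw).eq]; group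

theorem cell_s {g : G} (hg : R.InCell g) : R.InCell (S.s * g) := by
  rcases hg with hg | ⟨l, hl, v, hv, p, hp, rfl⟩ | ⟨x, hx, p, hp, rfl⟩
  · exact Or.inr (Or.inl ⟨1, one_mem _, 1, one_mem _, g, hg, by simp⟩)
  · obtain ⟨k, d, hd, rfl⟩ := R.levi_form hl
    obtain ⟨v₁, hv₁, p₁, hp₁, e₁⟩ := R.tor_z2w_s hd hv hp
    rw [show S.A k * d * (S.A wm * v * (S.A wm)⁻¹) * S.s * p =
      S.A k * (d * (S.A wm * v * (S.A wm)⁻¹) * S.s * p) by simp only [mul_assoc], e₁]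
    clear e₁ hv hp hl hd
    rcases sl_cases k with ⟨c, t, rfl⟩ | ⟨c, e, t, rfl⟩
    · obtain ⟨v₂, hv₂, p₂, hp₂, e₂⟩ := R.tor_z2w_s (R.dg_mem_tor t) hv₁ hp₁
      obtain ⟨v₃, hv₃, p₃, hp₃, e₃⟩ := R.up_z2w_s c hv₂ hp₂
      have e : S.A (up c * dg t) * ((S.A wm * v₁ * (S.A wm)⁻¹) * S.s * p₁) =
          (S.A wm * v₃ * (S.A wm)⁻¹) * S.s * p₃ := by
        rw [← e₃, map_mul]
        calc _ = S.A (up c) * (S.A (dg t) * (S.A wm * v₁ * (S.A wm)⁻¹) * S.s * p₁) := by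
              simp only [mul_assoc]
          _ = _ := by rw [e₂]; simp only [mul_assoc]
      rw [e]
      rcases eq_or_ne v₃ 1 with rfl | hne
      · refine Or.inl ?_
        rw [show S.s * (S.A wm * 1 * (S.A wm)⁻¹ * S.s * p₃) = S.s * S.s * p₃ by group]
        exact mul_mem (R.levi_par (R.levi_tor R.s_sq_mem)) hp₃
      · obtain ⟨va, hva, vb, hvb, d, hd, es⟩ := R.s_z2w hv₃ hne
        refine Or.inr (Or.inl ⟨1, one_mem _, va, hva, d * (S.A wm * vb * (S.A wm)⁻¹) * p₃,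
          mul_mem (mul_mem (R.levi_par (R.levi_tor hd)) (R.qrad_par (R.z2w_mem_qrad hvb))) hp₃, ?_⟩)
        calc S.s * ((S.A wm * v₃ * (S.A wm)⁻¹) * S.s * p₃)
            = (S.s * (S.A wm * v₃ * (S.A wm)⁻¹) * S.s) * p₃ := by simp only [mul_assoc]
          _ = _ := by rw [es]; group
    · obtain ⟨v₂, hv₂, p₂, hp₂, e₂⟩ := R.tor_z2w_s (R.dg_mem_tor t) hv₁ hp₁
      obtain ⟨v₃, hv₃, p₃, hp₃, e₃⟩ := R.up_z2w_s e hv₂ hp₂
      have e' : S.A (up c * wm * (up e * dg t)) * ((S.A wm * v₁ * (S.A wm)⁻¹) * S.s * p₁) =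
          S.A (up c) * S.A wm * (S.A wm * v₃ * (S.A wm)⁻¹) * S.s * p₃ := by
        rw [map_mul, map_mul, map_mul]
        calc _ = S.A (up c) * S.A wm *
              (S.A (up e) * (S.A (dg t) * (S.A wm * v₁ * (S.A wm)⁻¹) * S.s * p₁)) := by
              simp only [mul_assoc]
          _ = S.A (up c) * S.A wm *
              (S.A (up e) * (S.A wm * v₂ * (S.A wm)⁻¹) * S.s * p₂) := by
              rw [e₂]; simp only [mul_assoc]
          _ = _ := by rw [e₃]; simp only [mul_assoc]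
      rw [e']
      obtain ⟨x, hx, p', hp', es⟩ := R.s_second c hv₃ hp₃
      exact Or.inr (Or.inr ⟨x, hx, p', hp', es⟩)
  · obtain ⟨e, w, hw, v, hv, rfl⟩ := R.qrad_swap hx
    rcases eq_or_ne v 1 with rfl | hne
    · obtain ⟨e', he'⟩ := R.s_y e
      obtain ⟨v', hv', ev'⟩ := R.wm_Zw_z2w (R.Zw_tor (inv_mem R.s_sq_mem) hw)
      refine Or.inr (Or.inl ⟨S.A (up e') * (S.s * S.s) * S.A wm,
        mul_mem (mul_mem (R.A_levi _) (R.levi_tor R.s_sq_mem)) (R.A_levi _), v', hv', p, hp, ?_⟩)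
      rw [← ev', ← he']
      calc S.s * (S.A wm * 1 * (S.A wm)⁻¹ * (S.y e * w) * (S.s * S.A wm * S.s) * p)
          = S.s * S.y e * (S.s⁻¹ * (S.s * w)) * S.s * S.A wm * S.s * p := by group
        _ = _ := by
          rw [(R.s_comm_Zw hw).eq]
          simp only [_root_.mul_inv_rev, inv_inv, mul_assoc, inv_mul_cancel_left,
            mul_inv_cancel_left]
    · obtain ⟨va, hva, vb, hvb, d, hd, es⟩ := R.s_z2w hv hne
      obtain ⟨c', hc'⟩ := R.s_inv_y_Zw e hw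
      obtain ⟨c₁, hc₁⟩ := R.tor_conj_up hd c'
      have hxx : S.A wm * ((d * S.A (up c'))⁻¹ * 1 * (d * S.A (up c'))) * (S.A wm)⁻¹ = 1 := by group
      -- everything to the right of the first reflection
      have hq : (S.A (up c₁))⁻¹ * (d * (S.A wm * vb * (S.A wm)⁻¹) * d⁻¹) * S.A (up c₁) *
          (d * w * d⁻¹) ∈ R.qrad := by
        refine mul_mem ?_ (R.Zw_mem_qrad (R.Zw_tor hd hw))
        have := R.levi_qrad (inv_mem (R.A_levi (up c₁))) (R.tor_qrad hd (R.z2w_mem_qrad hvb))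
        rwa [inv_inv] at this
      set x' := (S.A (up c₁))⁻¹ * (d * (S.A wm * vb * (S.A wm)⁻¹) * d⁻¹) * S.A (up c₁) *
        (d * w * d⁻¹)
      have hx'' : (S.A wm)⁻¹ * x' * S.A wm ∈ R.qrad := by
        have := R.levi_qrad (inv_mem (R.A_levi wm)) hq
        rwa [inv_inv] at this
      obtain ⟨e2, w2, hw2, v2, hv2, ex2⟩ := R.qrad_swap hx''
      have hd' : (S.A wm)⁻¹ * d * S.A wm ∈ R.tor := R.wm_inv_conj_tor hd
      obtain ⟨x, hx, p', hp', e5⟩ := R.s_second c₁ hv2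
        (p := S.s⁻¹ * (S.y e2 * w2) * S.s * (S.s⁻¹ * ((S.A wm)⁻¹ * d * S.A wm) * S.s) * p)
        (mul_mem (mul_mem (R.urad_par (R.s_inv_urad (R.y_Zw_urad e2 hw2)))
          (R.levi_par (R.levi_tor (R.s_inv_conj_tor hd')))) hp)
      refine Or.inr (Or.inr ⟨(S.A wm * va * (S.A wm)⁻¹) * x,
        mul_mem (R.z2w_mem_qrad hva) hx, p', hp', ?_⟩)
      rw [mul_assoc _ x, mul_assoc _ (x * (S.s * S.A wm * S.s)), ← e5]
      have e6 : S.A (up c₁) * S.A wm * ((S.A wm * v2 * (S.A wm)⁻¹) * (S.y e2 * w2)) =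
          S.A (up c₁) * x' * S.A wm := by rw [← ex2]; group
      have e7 : S.A (up c₁) * x' = d * (S.A wm * vb * (S.A wm)⁻¹) * (S.A (up c') * w) * d⁻¹ := by
        simp only [x', ← hc₁]; group
      calc S.s * ((S.A wm * v * (S.A wm)⁻¹) * (S.y e * w) * (S.s * S.A wm * S.s) * p)
          = (S.s * (S.A wm * v * (S.A wm)⁻¹) * S.s) * (S.s⁻¹ * (S.y e * w) * S.s)
              * S.A wm * S.s * p := by group
        _ = (S.A wm * va * (S.A wm)⁻¹) * S.s *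
              (d * (S.A wm * vb * (S.A wm)⁻¹) * (S.A (up c') * w) * d⁻¹) * d
              * S.A wm * S.s * p := by rw [es, hc']; group
        _ = (S.A wm * va * (S.A wm)⁻¹) * S.s *
              (S.A (up c₁) * x' * S.A wm) * ((S.A wm)⁻¹ * d * S.A wm) * S.s * p := by
              rw [← e7]; group
        _ = _ := by rw [← e6]; group

theorem inCell_all (hgen : Subgroup.closure ((S.A.range : Set G) ∪ {S.s}) = ⊤) (g : G) :
    R.InCell g := by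
  have hg : g ∈ Subgroup.closure ((S.A.range : Set G) ∪ {S.s}) := by rw [hgen]; trivial
  have hinv : ∀ x, R.InCell x → R.InCell (S.s⁻¹ * x) := fun x hx => by
    rw [show S.s⁻¹ * x = (S.s * S.s)⁻¹ * (S.s * x) by group]
    exact R.cell_levi (R.levi_tor (inv_mem R.s_sq_mem)) (R.cell_s hx)
  induction hg using Subgroup.closure_induction_left with
  | one => exact Or.inl (one_mem _)
  | mul_left a ha b _ ih =>
    rcases ha with ha | rfl
    · exact R.cell_levi (Subgroup.mem_sup_left ha) ih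
    · exact R.cell_s ih
  | inv_mul_cancel a ha b _ ih =>
    rcases ha with ha | rfl
    · exact R.cell_levi (inv_mem (Subgroup.mem_sup_left ha)) ih
    · exact hinv _ ih

theorem θ_par {g : G} (hg : g ∈ R.par) :
    S.θ g 2 0 = 0 ∧ S.θ g 2 1 = 0 ∧ S.θ g 3 0 = 0 ∧ S.θ g 3 1 = 0 := by
  obtain ⟨x, hx, l, hl, rfl⟩ := hg
  obtain ⟨c, r, r', -, -, -, eθ⟩ := R.θ_qrad hx
  obtain ⟨-, -, -, h1, h2, h3, h4⟩ := R.θ_levi hl
  rw [map_mul, eθ]
  refine ⟨?_, ?_, ?_, ?_⟩ <;>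
    simp [Qmat, Matrix.mul_apply, Fin.sum_univ_four, h1, h2, h3, h4]

/-- The relations determine the group. -/
theorem kernel_trivial (hgen : Subgroup.closure ((S.A.range : Set G) ∪ {S.s}) = ⊤) {g : G}
    (hg : S.θ g = 1) : g = 1 := by
  rcases R.inCell_all hgen g with h | ⟨l, hl, v, hv, p, hp, rfl⟩ | ⟨x, hx, p, hp, rfl⟩
  · exact R.par_inj h hg
  · exfalso
    set lz := l * (S.A wm * v * (S.A wm)⁻¹)
    have hlz : lz ∈ R.par := mul_mem (R.levi_par hl) (R.qrad_par (R.z2w_mem_qrad hv))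
    have e : S.θ S.s = S.θ (lz⁻¹ * p⁻¹) := by
      have h1 := congrArg (fun M => S.θ lz⁻¹ * M * S.θ p⁻¹) hg
      simp only [← map_mul, mul_one] at h1
      rw [show lz⁻¹ * (lz * S.s * p) * p⁻¹ = S.s by group] at h1
      exact h1
    have h31 := (R.θ_par (mul_mem (inv_mem hlz) (inv_mem hp))).2.2.2
    rw [← e, S.θ_s] at h31
    simp [Smat, S.δ_ne] at h31
  · exfalso
    have e : S.θ (S.s * S.A wm * S.s) = S.θ (x⁻¹ * p⁻¹) := by
      have h1 := congrArg (fun M => S.θ x⁻¹ * M * S.θ p⁻¹) hg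
      simp only [← map_mul, mul_one] at h1
      rw [show x⁻¹ * (x * (S.s * S.A wm * S.s) * p) * p⁻¹ = S.s * S.A wm * S.s by group] at h1
      exact h1
    have h30 := (R.θ_par (mul_mem (inv_mem (R.qrad_par hx)) (inv_mem hp))).2.2.1
    rw [← e, map_mul, map_mul, S.θ_s, S.θ_A, Lmat_wm S.hF] at h30
    simp [Smat, Matrix.mul_apply, Fin.sum_univ_four, S.δ_ne] at h30

end Rels

end Cfsg.Agent.H68.ShortU4
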