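import Cfsg.Agent.Unitary.Field
import Cfsg.Agent.H99.ShortPresModel

/-!
Matrices for `SU₄(q)` in a hyperbolic frame `e₁, e₂, f₁, f₂`: the Levi group `SL₂(q²)`, the
abelian radical, the torus and the reflection in the second plane.
-/

set_option autoImplicit false
set_option linter.unusedSectionVars false

namespace Cfsg.Agent.H68.ShortU4

open Matrix Cfsg.Agent.Unitary Cfsg.Agent.H99.ShortPres

variable {F : Type*} [Field F] [Fintype F] {q : ℕ}

local notation "SL2" => Matrix.SpecialLinearGroup (Fin 2) F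
local notation "M4" => Matrix (Fin 4) (Fin 4) F

/-- The Levi matrix of `g`. -/
def Lmat (q : ℕ) (g : SL2) : M4 :=
  !![g.1 0 0, g.1 0 1, 0, 0; g.1 1 0, g.1 1 1, 0, 0;
     0, 0, g.1 1 1 ^ q, -(g.1 1 0 ^ q); 0, 0, -(g.1 0 1 ^ q), g.1 0 0 ^ q]

/-- The radical matrix of a Hermitian form with entries `r, c, r'`, scaled by a skew `δ`. -/
def Qmat (q : ℕ) (δ r c r' : F) : M4 :=
  !![1, 0, r / δ, c / δ; 0, 1, c ^ q / δ, r' / δ; 0, 0, 1, 0; 0, 0, 0, 1]

/-- The torus matrix. -/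
def Dmat (q : ℕ) (t₁ t₂ : F) : M4 :=
  !![t₁, 0, 0, 0; 0, t₂, 0, 0; 0, 0, (t₁ ^ q)⁻¹, 0; 0, 0, 0, (t₂ ^ q)⁻¹]

/-- The reflection in the second plane. -/
def Smat (δ : F) : M4 := !![1, 0, 0, 0; 0, 0, 0, -δ⁻¹; 0, 0, 1, 0; 0, δ, 0, 0]

/-- Its inverse. -/
def SmatI (δ : F) : M4 := !![1, 0, 0, 0; 0, 0, 0, δ⁻¹; 0, 0, 1, 0; 0, -δ, 0, 0]

variable {δ : F}

theorem Smat_mul_inv (hδ : δ ≠ 0) : Smat δ * SmatI δ = 1 := by
  ext i j
  fin_cases i <;> fin_cases j <;> simp [Smat, SmatI, Matrix.mul_apply, Fin.sum_univ_four, hδ]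

theorem Lmat_one (hF : Fintype.card F = q ^ 2) : Lmat q (1 : SL2) = 1 := by
  ext i j
  fin_cases i <;> fin_cases j <;> simp [Lmat, q_ne_zero hF]

theorem Lmat_mul (hF : Fintype.card F = q ^ 2) (g h : SL2) :
    Lmat q (g * h) = Lmat q g * Lmat q h := by
  ext i j
  fin_cases i <;> fin_cases j <;>
    simp [Lmat, Matrix.mul_apply, Fin.sum_univ_four, Fin.sum_univ_two,
      Matrix.SpecialLinearGroup.coe_mul, add_pow_q hF, mul_pow] <;> ring

theorem Lmat_inj {g h : SL2} (e : Lmat q g = Lmat q h) : g = h := by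
  apply SL_ext
  ext i j
  have h00 := congrFun (congrFun e 0) 0
  have h01 := congrFun (congrFun e 0) 1
  have h10 := congrFun (congrFun e 1) 0
  have h11 := congrFun (congrFun e 1) 1
  simp [Lmat] at h00 h01 h10 h11
  fin_cases i <;> fin_cases j <;> assumption

theorem Lmat_up (hF : Fintype.card F = q ^ 2) (c : F) :
    Lmat q (up c) = !![1, c, 0, 0; 0, 1, 0, 0; 0, 0, 1, 0; 0, 0, -(c ^ q), 1] := by
  ext i j
  fin_cases i <;> fin_cases j <;> simp [Lmat, up, q_ne_zero hF]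

theorem Lmat_dg (hF : Fintype.card F = q ^ 2) (t : Fˣ) :
    Lmat q (dg t) = Dmat q (t : F) (t : F)⁻¹ := by
  ext i j
  fin_cases i <;> fin_cases j <;> simp [Lmat, Dmat, dg, q_ne_zero hF]

theorem Lmat_wm (hF : Fintype.card F = q ^ 2) :
    Lmat q (wm : SL2) = !![0, 1, 0, 0; -1, 0, 0, 0; 0, 0, 0, 1; 0, 0, -1, 0] := by
  ext i j
  fin_cases i <;> fin_cases j <;> simp [Lmat, wm, q_ne_zero hF, neg_pow_q hF]

theorem Dmat_one (hF : Fintype.card F = q ^ 2) : Dmat q (1 : F) 1 = 1 := by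
  ext i j
  fin_cases i <;> fin_cases j <;> simp [Dmat]

theorem Dmat_mul (t₁ t₂ u₁ u₂ : F) :
    Dmat q t₁ t₂ * Dmat q u₁ u₂ = Dmat q (t₁ * u₁) (t₂ * u₂) := by
  ext i j
  fin_cases i <;> fin_cases j <;>
    simp [Dmat, Matrix.mul_apply, Fin.sum_univ_four, mul_pow, mul_comm]

theorem Smat_Dmat (hF : Fintype.card F = q ^ 2) (hδ : δ ≠ 0) (t₁ t₂ : F) :
    Smat δ * Dmat q t₁ t₂ * SmatI δ = Dmat q t₁ (t₂ ^ q)⁻¹ := by
  ext i j
  fin_cases i <;> fin_cases j <;>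
    simp [Dmat, Smat, SmatI, Matrix.mul_apply, Fin.sum_univ_four, pow_q_q hF] <;> field_simp

theorem Smat_sq (hδ : δ ≠ 0) (hF : Fintype.card F = q ^ 2) :
    Smat δ * Smat δ = Dmat q (1 : F) (-1) := by
  ext i j
  fin_cases i <;> fin_cases j <;>
    simp [Smat, Dmat, Matrix.mul_apply, Fin.sum_univ_four, hδ, neg_pow_q hF]

theorem Smat_up (hF : Fintype.card F = q ^ 2) (hδ : δ ≠ 0) (c : F) :
    Smat δ * Lmat q (up c) * SmatI δ = Qmat q δ 0 c 0 := by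
  rw [Lmat_up hF]
  ext i j
  fin_cases i <;> fin_cases j <;>
    simp [Smat, SmatI, Qmat, Matrix.mul_apply, Fin.sum_univ_four, hδ] <;> field_simp

theorem Smat_y (hF : Fintype.card F = q ^ 2) (hδ : δ ≠ 0) (c : F) :
    Smat δ * Qmat q δ 0 c 0 * SmatI δ = Lmat q (up (-c)) := by
  rw [Lmat_up hF]
  ext i j
  fin_cases i <;> fin_cases j <;>
    simp [Smat, SmatI, Qmat, Matrix.mul_apply, Fin.sum_univ_four, hδ, neg_pow_q hF] <;> field_simp

theorem Qmat_zero (hF : Fintype.card F = q ^ 2) : Qmat q δ (0 : F) 0 0 = 1 := by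
  ext i j
  fin_cases i <;> fin_cases j <;> simp [Qmat, q_ne_zero hF]

theorem Qmat_mul (hF : Fintype.card F = q ^ 2) (r c r' s d s' : F) :
    Qmat q δ r c r' * Qmat q δ s d s' = Qmat q δ (r + s) (c + d) (r' + s') := by
  ext i j
  fin_cases i <;> fin_cases j <;>
    simp [Qmat, Matrix.mul_apply, Fin.sum_univ_four, add_pow_q hF, add_div] <;> ring

theorem Qmat_inj (hδ : δ ≠ 0) {r c r' s d s' : F} (e : Qmat q δ r c r' = Qmat q δ s d s') :
    r = s ∧ c = d ∧ r' = s' := by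
  have h02 := congrFun (congrFun e 0) 2
  have h03 := congrFun (congrFun e 0) 3
  have h13 := congrFun (congrFun e 1) 3
  simp [Qmat, hδ] at h02 h03 h13
  exact ⟨h02, h03, h13⟩

/-- The commutator of `up c` and `y d`, written without inverses. -/
theorem up_y (hF : Fintype.card F = q ^ 2) (hδ : δ ≠ 0) (c d : F) :
    Lmat q (up c) * Qmat q δ 0 d 0 =
      Qmat q δ (c * d ^ q + c ^ q * d) 0 0 * Qmat q δ 0 d 0 * Lmat q (up c) := by
  rw [Lmat_up hF]
  ext i j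
  fin_cases i <;> fin_cases j <;>
    simp [Qmat, Matrix.mul_apply, Fin.sum_univ_four, q_ne_zero hF] <;> field_simp <;> ring

theorem up_z2 (hF : Fintype.card F = q ^ 2) (hδ : δ ≠ 0) (c r : F) :
    Lmat q (up c) * Qmat q δ 0 0 r =
      Qmat q δ (c * c ^ q * r) (r * c) r * Lmat q (up c) ∨ r ^ q ≠ r := by
  by_cases hr : r ^ q = r
  · left
    rw [Lmat_up hF]
    ext i j
    fin_cases i <;> fin_cases j <;>
      simp [Qmat, Matrix.mul_apply, Fin.sum_univ_four, mul_pow, hr, q_ne_zero hF] <;> field_simp <;> ring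
  · exact Or.inr hr

theorem wm_Qmat (hF : Fintype.card F = q ^ 2) (r c r' : F) :
    Lmat q (wm : SL2) * Qmat q δ r c r' = Qmat q δ r' (-(c ^ q)) r * Lmat q (wm : SL2) := by
  rw [Lmat_wm hF]
  ext i j
  fin_cases i <;> fin_cases j <;>
    simp [Qmat, Matrix.mul_apply, Fin.sum_univ_four, neg_pow_q hF, pow_q_q hF, neg_div]

/-- The relation between the two opposite root elements of the second plane. -/
theorem s_z2 (hF : Fintype.card F = q ^ 2) (hδ : δ ≠ 0) :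
    Smat δ * Qmat q δ 0 0 1 * SmatI δ =
      Qmat q δ 0 0 (-1) * Smat δ * Dmat q 1 (-1) * Qmat q δ 0 0 (-1) := by
  ext i j
  fin_cases i <;> fin_cases j <;>
    simp [Smat, SmatI, Qmat, Dmat, Matrix.mul_apply, Fin.sum_univ_four, hδ, q_ne_zero hF,
      neg_pow_q hF] <;> field_simp <;> ring

theorem Smat_z1 (hF : Fintype.card F = q ^ 2) (hδ : δ ≠ 0) (r : F) :
    Smat δ * Qmat q δ r 0 0 = Qmat q δ r 0 0 * Smat δ := by
  ext i j
  fin_cases i <;> fin_cases j <;>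
    simp [Smat, Qmat, Matrix.mul_apply, Fin.sum_univ_four, q_ne_zero hF]

theorem wwm (hF : Fintype.card F = q ^ 2) (hδ : δ ≠ 0) :
    Smat δ * Lmat q (wm : SL2) * Smat δ * Lmat q (wm : SL2) =
      Lmat q (wm : SL2) * (Smat δ * Lmat q (wm : SL2) * Smat δ) := by
  rw [Lmat_wm hF]
  ext i j
  fin_cases i <;> fin_cases j <;>
    simp [Smat, Matrix.mul_apply, Fin.sum_univ_four, hδ]

theorem Dmat_up (hF : Fintype.card F = q ^ 2) {t₁ t₂ : F} (h₁ : t₁ ≠ 0) (h₂ : t₂ ≠ 0) (c : F) :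
    Dmat q t₁ t₂ * Lmat q (up c) = Lmat q (up (t₁ / t₂ * c)) * Dmat q t₁ t₂ := by
  rw [Lmat_up hF, Lmat_up hF]
  have := pow_ne_zero q h₁
  have := pow_ne_zero q h₂
  ext i j
  fin_cases i <;> fin_cases j <;>
    simp [Dmat, Matrix.mul_apply, Fin.sum_univ_four, mul_pow, div_pow] <;> field_simp

theorem Dmat_Qmat (hF : Fintype.card F = q ^ 2) {t₁ t₂ : F} (h₁ : t₁ ≠ 0) (h₂ : t₂ ≠ 0)
    (r c r' : F) :
    Dmat q t₁ t₂ * Qmat q δ r c r' =
      Qmat q δ (t₁ * t₁ ^ q * r) (t₁ * t₂ ^ q * c) (t₂ * t₂ ^ q * r') * Dmat q t₁ t₂ := by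
  have := pow_ne_zero q h₁
  have := pow_ne_zero q h₂
  ext i j
  fin_cases i <;> fin_cases j <;>
    simp [Dmat, Qmat, Matrix.mul_apply, Fin.sum_univ_four, mul_pow, pow_q_q hF] <;> field_simp

theorem Dmat_wm (hF : Fintype.card F = q ^ 2) {t₁ t₂ : F} (h₁ : t₁ ≠ 0) (h₂ : t₂ ≠ 0) (t : Fˣ)
    (ht : (t : F) = t₁ / t₂) :
    Dmat q t₁ t₂ * Lmat q (wm : SL2) = Lmat q (dg t * wm) * Dmat q t₁ t₂ := by
  have := pow_ne_zero q h₁
  have := pow_ne_zero q h₂
  rw [Lmat_mul hF, Lmat_dg hF, Lmat_wm hF, ht]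
  ext i j
  fin_cases i <;> fin_cases j <;>
    simp [Dmat, Matrix.mul_apply, Fin.sum_univ_four, div_pow] <;> field_simp

/-- Every element of `SL₂` in Bruhat form. -/
theorem sl_cases (g : SL2) : (∃ (c : F) (t : Fˣ), g = up c * dg t) ∨
    ∃ (c d : F) (t : Fˣ), g = up c * wm * (up d * dg t) := by
  have hdet : g.1 0 0 * g.1 1 1 - g.1 0 1 * g.1 1 0 = 1 := by
    have := g.2
    rwa [Matrix.det_fin_two] at this
  by_cases h : g.1 1 0 = 0
  · rw [h, mul_zero, sub_zero] at hdet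
    have ha : g.1 0 0 ≠ 0 := fun e => by simp [e] at hdet
    have hd : g.1 1 1 = (g.1 0 0)⁻¹ := (inv_eq_of_mul_eq_one_right hdet).symm
    refine Or.inl ⟨g.1 0 1 * g.1 0 0, Units.mk0 _ ha, SL_ext ?_⟩
    rw [Matrix.SpecialLinearGroup.coe_mul]
    ext i j
    fin_cases i <;> fin_cases j <;>
      simp [up, dg, Matrix.mul_apply, Fin.sum_univ_two, h, hd]
    field_simp
  · refine Or.inr ⟨g.1 0 0 / g.1 1 0, g.1 1 1 * g.1 1 0, Units.mk0 _ (neg_ne_zero.2 h), SL_ext ?_⟩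
    rw [Matrix.SpecialLinearGroup.coe_mul, Matrix.SpecialLinearGroup.coe_mul,
      Matrix.SpecialLinearGroup.coe_mul]
    ext i j
    fin_cases i <;> fin_cases j <;>
      simp [up, dg, wm, Matrix.mul_apply, Fin.sum_univ_two] <;> field_simp
    linear_combination -hdet

end Cfsg.Agent.H68.ShortU4
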