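import Cfsg.Agent.H68.ShortU4.Torus
import Cfsg.Agent.Unitary.Generation

/-!
`SU₄(q)` in a hyperbolic frame: the frame matrix, the elements with prescribed frame matrices and
generation by the Levi group and one reflection.
-/

set_option autoImplicit false
set_option linter.unusedSectionVars false

namespace Cfsg.Agent.H68.ShortU4

open Cfsg Matrix Cfsg.Agent.Unitary Cfsg.Agent.H99.ShortPres

variable {F : Type*} [Field F] [Fintype F] {q : ℕ}

local notation "SL2" => Matrix.SpecialLinearGroup (Fin 2) F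
local notation "M4" => Matrix (Fin 4) (Fin 4) F

/-- The Gram matrix of the frame. -/
def Jmat : M4 := !![0, 0, 1, 0; 0, 0, 0, 1; 1, 0, 0, 0; 0, 1, 0, 0]

/-- The frame, columnwise. -/
def Pmat (γ η : F) : M4 :=
  !![1, 0, η, 0; γ, 0, (η - 1) * γ, 0; 0, 1, 0, η; 0, γ, 0, (η - 1) * γ]

/-- The matrix preserves the frame's form. -/
def Pres (q : ℕ) (D : M4) : Prop := Dᵀ * Jmat * D.map (fun x => x ^ q) = Jmat

/-- The parameters of the frame. -/
structure Fr (F : Type*) [Field F] [Fintype F] (q : ℕ) where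
  hF : Fintype.card F = q ^ 2
  γ : F
  η : F
  hγ : γ * γ ^ q = -1
  hη : η + η ^ q = 1

namespace Fr

variable (T : Fr F q)

theorem map_mul_pow (T : Fr F q) (M N : M4) :
    (M * N).map (fun x => x ^ q) = M.map (fun x => x ^ q) * N.map (fun x => x ^ q) :=
  Matrix.map_mul (f := (frob T.hF).toRingHom)

theorem map_one_pow (T : Fr F q) : (1 : M4).map (fun x => x ^ q) = 1 :=
  Matrix.map_one (frob T.hF) (map_zero _) (map_one _)

/-- The frame matrix. -/
def P : M4 := Pmat T.γ T.η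

/-- Its inverse. -/
def Q : M4 := Jmat * (T.P.map fun x => x ^ q)ᵀ

theorem gram : T.Pᵀ * T.P.map (fun x => x ^ q) = Jmat := by
  have h1 := T.hγ
  have h2 := T.hη
  ext i j
  fin_cases i <;> fin_cases j <;>
    simp [P, Pmat, Jmat, Matrix.mul_apply, Fin.sum_univ_four, q_ne_zero T.hF, mul_pow,
      sub_pow_q T.hF] <;>
    first
      | linear_combination h1
      | linear_combination (T.η ^ q - 1) * h1
      | linear_combination (T.η - 1) * h1
      | linear_combination (T.η - 1) * (T.η ^ q - 1) * h1 + h2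

theorem J_sq : (Jmat : M4) * Jmat = 1 := by
  ext i j
  fin_cases i <;> fin_cases j <;> simp [Jmat, Matrix.mul_apply, Fin.sum_univ_four]

theorem J_transpose : (Jmat : M4)ᵀ = Jmat := by
  ext i j
  fin_cases i <;> fin_cases j <;> simp [Jmat]

theorem Q_P : T.Q * T.P = 1 := by
  have h := congrArg Matrix.transpose T.gram
  rw [transpose_mul, transpose_transpose, J_transpose] at h
  rw [Q, Matrix.mul_assoc, h, J_sq]

theorem P_Q : T.P * T.Q = 1 := mul_eq_one_comm.1 T.Q_P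

/-- The matrix in the frame. -/
def fm : SU 4 F q →* M4 where
  toFun g := T.Q * mat g * T.P
  map_one' := by show T.Q * 1 * T.P = 1; rw [Matrix.mul_one, T.Q_P]
  map_mul' g h := by
    rw [show mat (g * h) = mat g * mat h from rfl]
    simp only [Matrix.mul_assoc]
    rw [← Matrix.mul_assoc T.P, T.P_Q, Matrix.one_mul]

theorem fm_apply (g : SU 4 F q) : T.fm g = T.Q * mat g * T.P := rfl

theorem mat_eq (g : SU 4 F q) : mat g = T.P * T.fm g * T.Q := by
  simp only [fm_apply, Matrix.mul_assoc, T.P_Q, Matrix.mul_one]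
  rw [← Matrix.mul_assoc, T.P_Q, Matrix.one_mul]

theorem fm_inj {g h : SU 4 F q} (e : T.fm g = T.fm h) : g = h :=
  Subtype.ext (Subtype.ext (show mat g = mat h by rw [T.mat_eq g, T.mat_eq h, e]))

theorem fm_pres (g : SU 4 F q) : Pres q (T.fm g) := by
  rw [Pres, ← T.gram, Matrix.mul_assoc, Matrix.mul_assoc T.Pᵀ, ← T.map_mul_pow,
    ← Matrix.mul_assoc, ← transpose_mul]
  have h := T.mat_eq g
  have e : T.P * T.fm g = mat g * T.P := by
    rw [h, Matrix.mul_assoc (T.P * T.fm g), T.Q_P, Matrix.mul_one]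
  have hg : (mat g)ᵀ * (mat g).map (fun x => x ^ q) = 1 :=
    (preserves_iff_transpose_mul T.hF).1 g.2
  rw [e, transpose_mul, T.map_mul_pow, Matrix.mul_assoc, ← Matrix.mul_assoc (mat g)ᵀ, hg,
    Matrix.one_mul]

theorem exists_elt {D : M4} (hdet : D.det = 1) (hD : Pres q D) :
    ∃ g : SU 4 F q, T.fm g = D := by
  have hp : Preserves q (T.P * D * T.Q) := by
    rw [preserves_iff_transpose_mul T.hF, T.map_mul_pow, T.map_mul_pow, transpose_mul,
      transpose_mul]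
    calc T.Qᵀ * (Dᵀ * T.Pᵀ) * (T.P.map (fun x => x ^ q) * D.map (fun x => x ^ q) *
          T.Q.map (fun x => x ^ q))
        = T.Qᵀ * (Dᵀ * (T.Pᵀ * T.P.map (fun x => x ^ q)) * D.map (fun x => x ^ q)) *
            T.Q.map (fun x => x ^ q) := by simp only [Matrix.mul_assoc]
      _ = (T.P * T.Q)ᵀ * (T.P * T.Q).map (fun x => x ^ q) := by
          rw [T.gram, hD, ← T.gram, transpose_mul, T.map_mul_pow]
          simp only [Matrix.mul_assoc]
      _ = 1 := by rw [T.P_Q, transpose_one, T.map_one_pow, Matrix.one_mul]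
  have hd : (T.P * D * T.Q).det = 1 := by
    rw [det_mul, det_mul, hdet, mul_one, ← det_mul, T.P_Q, det_one]
  refine ⟨toSU hp hd, ?_⟩
  show T.Q * (T.P * D * T.Q) * T.P = D
  simp only [← Matrix.mul_assoc, T.Q_P, Matrix.one_mul]
  rw [Matrix.mul_assoc, T.Q_P, Matrix.mul_one]

theorem herm_P (x y : Fin 4 → F) :
    hermForm 4 F q (T.P *ᵥ x) (T.P *ᵥ y) = x ⬝ᵥ (Jmat *ᵥ cj q y) := by
  have e : cj q (T.P *ᵥ y) = T.P.map (fun x => x ^ q) *ᵥ cj q y := by
    funext i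
    exact (RingHom.map_mulVec (frob T.hF).toRingHom T.P y i)
  rw [herm_eq_dot, e, ← vecMul_transpose, ← dotProduct_mulVec, mulVec_mulVec, T.gram]

theorem ap_P (g : SU 4 F q) (x : Fin 4 → F) : ap g (T.P *ᵥ x) = T.P *ᵥ (T.fm g *ᵥ x) := by
  rw [ap_def, T.mat_eq g, mulVec_mulVec, mulVec_mulVec, Matrix.mul_assoc (T.P * T.fm g), T.Q_P,
    Matrix.mul_one]

end Fr

theorem Lmat_det (hF : Fintype.card F = q ^ 2) (g : SL2) : (Lmat q g).det = 1 := by
  have hd : g.1 0 0 * g.1 1 1 - g.1 0 1 * g.1 1 0 = 1 := by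
    have := g.2
    rwa [Matrix.det_fin_two] at this
  have hd' : g.1 0 0 ^ q * g.1 1 1 ^ q - g.1 0 1 ^ q * g.1 1 0 ^ q = 1 := by
    rw [← mul_pow, ← mul_pow, ← sub_pow_q hF, hd, one_pow]
  simp [Lmat, Matrix.det_succ_row_zero, Fin.sum_univ_succ, Fin.succAbove]
  linear_combination hd + (g.1 0 0 * g.1 1 1 - g.1 0 1 * g.1 1 0) * hd'

theorem Lmat_pres (hF : Fintype.card F = q ^ 2) (g : SL2) : Pres q (Lmat q g) := by
  have hd : g.1 0 0 * g.1 1 1 - g.1 0 1 * g.1 1 0 = 1 := by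
    have := g.2
    rwa [Matrix.det_fin_two] at this
  have hd' : g.1 0 0 ^ q * g.1 1 1 ^ q - g.1 0 1 ^ q * g.1 1 0 ^ q = 1 := by
    rw [← mul_pow, ← mul_pow, ← sub_pow_q hF, hd, one_pow]
  rw [Pres]
  ext i j
  fin_cases i <;> fin_cases j <;>
    simp [Lmat, Jmat, Matrix.mul_apply, Fin.sum_univ_four, q_ne_zero hF, neg_pow_q hF,
      pow_q_q hF] <;>
    first
      | ring1
      | linear_combination hd
      | linear_combination hd'

theorem Smat_det {δ : F} (hδ : δ ≠ 0) : (Smat δ).det = 1 := by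
  simp [Smat, Matrix.det_succ_row_zero, Fin.sum_univ_succ, Fin.succAbove, hδ]

theorem Smat_pres (hF : Fintype.card F = q ^ 2) {δ : F} (hδ0 : δ ≠ 0) (hδ : δ ^ q = -δ) :
    Pres q (Smat δ) := by
  rw [Pres]
  ext i j
  fin_cases i <;> fin_cases j <;>
    simp [Smat, Jmat, Matrix.mul_apply, Fin.sum_univ_four, q_ne_zero hF, neg_pow_q hF,
      inv_pow, hδ, hδ0]

theorem exists_fr (hF : Fintype.card F = q ^ 2) : Nonempty (Fr F q) := by
  obtain ⟨γ, hγ⟩ := exists_norm_eq_neg_one hF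
  obtain ⟨η, hη⟩ := exists_trace_eq hF (one_pow q : (1 : F) ^ q = 1)
  exact ⟨⟨hF, γ, η, hγ, hη⟩⟩

theorem exists_levi (T : Fr F q) :
    ∃ A : SL2 →* SU 4 F q, ∀ g, T.fm (A g) = Lmat q g := by
  have h : ∀ g : SL2, ∃ e : SU 4 F q, T.fm e = Lmat q g := fun g => T.exists_elt
    (Lmat_det T.hF g)
    (Lmat_pres T.hF g)
  choose e he using h
  exact ⟨{ toFun := e
           map_one' := T.fm_inj (by rw [he, map_one, Lmat_one T.hF])
           map_mul' := fun g g' => T.fm_inj (by rw [he, map_mul, he, he, Lmat_mul T.hF]) }, he⟩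

theorem exists_setting (hF : Fintype.card F = q ^ 2) :
    ∃ (T : Fr F q) (S : Setting F q (SU 4 F q)), S.θ = T.fm := by
  obtain ⟨T⟩ := exists_fr hF
  obtain ⟨A, hA⟩ := exists_levi T
  obtain ⟨δ, hδ0, hδ⟩ := exists_skew hF
  obtain ⟨s, hs⟩ := T.exists_elt (Smat_det hδ0) (Smat_pres hF hδ0 hδ)
  obtain ⟨ω, hω⟩ := IsCyclic.exists_generator (α := Fˣ)
  exact ⟨T, { hF := hF, θ := T.fm, A := A, s := s, δ := δ, ε := T.η, ω := ω, δ_ne := hδ0,
              δ_skew := hδ, ε_tr := T.hη, ω_gen := hω, θ_A := hA, θ_s := hs }, rfl⟩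

variable (T : Fr F q) (S : Setting F q (SU 4 F q))

/-- The subgroup of the Levi group and the reflection moves every isotropic vector to the first. -/
theorem exists_to_first (hθ : S.θ = T.fm) {H : Subgroup (SU 4 F q)}
    (hA : ∀ g, S.A g ∈ H) (hs : S.s ∈ H) {v : Fin 4 → F} (hv0 : v ≠ 0)
    (hv : hermForm 4 F q v v = 0) : ∃ h ∈ H, ap h v = T.P *ᵥ ![1, 0, 0, 0] := by
  have hF := S.hF
  have hap : ∀ (g : SU 4 F q) (x : Fin 4 → F),
      ap g (T.P *ᵥ x) = T.P *ᵥ (S.θ g *ᵥ x) := fun g x => by rw [hθ]; exact T.ap_P g x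
  have hz : ∀ r : F, r ^ q = r → S.ψ r ∈ H := fun r _ => by
    simp only [Setting.ψ, Setting.y]
    exact mul_mem (mul_mem (mul_mem (hA _) (mul_mem (mul_mem hs (hA _)) (inv_mem hs)))
      (inv_mem (hA _))) (inv_mem (mul_mem (mul_mem hs (hA _)) (inv_mem hs)))
  obtain ⟨x, rfl⟩ : ∃ x, v = T.P *ᵥ x :=
    ⟨T.Q *ᵥ v, by rw [mulVec_mulVec, T.P_Q, one_mulVec]⟩
  have hx0 : x ≠ 0 := fun h => hv0 (by rw [h, mulVec_zero])
  by_cases hy : x 2 = 0 ∧ x 3 = 0
  · -- inside the first totally isotropic plane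
    have hk : ∃ g : SL2, g.1 0 0 * x 0 + g.1 0 1 * x 1 = 1 ∧
        g.1 1 0 * x 0 + g.1 1 1 * x 1 = 0 := by
      by_cases h0 : x 0 = 0
      · have h1 : x 1 ≠ 0 := fun h => hx0 (by
          funext i; fin_cases i <;> simp [h0, h, hy.1, hy.2])
        exact ⟨⟨!![0, (x 1)⁻¹; -x 1, 0], by simp [Matrix.det_fin_two, h1]⟩, by simp [h1],
          by simp [h0]⟩
      · exact ⟨⟨!![(x 0)⁻¹, 0; -x 1, x 0], by simp [Matrix.det_fin_two, h0]⟩, by simp [h0],
          by simp; ring⟩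
    obtain ⟨g, e1, e2⟩ := hk
    refine ⟨_, hA g, ?_⟩
    rw [hap, S.θ_A]
    congr 1
    funext i
    fin_cases i <;>
      simp [Lmat, Matrix.mulVec, dotProduct, Fin.sum_univ_four, hy.1, hy.2, e1, e2]
  · have hk : ∃ g : SL2, g.1 1 1 ^ q * x 2 + -(g.1 1 0 ^ q) * x 3 = 0 ∧
        -(g.1 0 1 ^ q) * x 2 + g.1 0 0 ^ q * x 3 = 1 := by
      by_cases h3 : x 3 = 0
      · have h2 : x 2 ≠ 0 := fun h => hy ⟨h, h3⟩
        have hb : (-(x 2 ^ q)⁻¹) ^ q = -(x 2)⁻¹ := by rw [neg_pow_q hF, inv_pow, pow_q_q hF]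
        exact ⟨⟨!![0, -(x 2 ^ q)⁻¹; x 2 ^ q, 0], by simp [Matrix.det_fin_two, h2]⟩,
          by simp [h3, q_ne_zero hF], by simp [h2, h3, hb, neg_pow_q hF, inv_pow, pow_q_q hF]⟩
      · exact ⟨⟨!![(x 3 ^ q)⁻¹, 0; x 2 ^ q, x 3 ^ q], by simp [Matrix.det_fin_two, h3]⟩,
          by simp [pow_q_q hF]; ring, by simp [pow_q_q hF, q_ne_zero hF, inv_pow, h3]⟩
    obtain ⟨g, e1, e2⟩ := hk
    set y := S.θ (S.A g) *ᵥ x with hy_def
    have h2 : y 2 = 0 := by
      simp [hy_def, S.θ_A, Lmat, Matrix.mulVec, dotProduct, Fin.sum_univ_four]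
      linear_combination e1
    have h3 : y 3 = 1 := by
      simp [hy_def, S.θ_A, Lmat, Matrix.mulVec, dotProduct, Fin.sum_univ_four]
      linear_combination e2
    have hiso : y 1 + y 1 ^ q = 0 := by
      have h := herm_ap (S.A g) (T.P *ᵥ x) (T.P *ᵥ x)
      rw [hv, hap, T.herm_P] at h
      rw [← hy_def] at h
      simp [Jmat, Matrix.mulVec, dotProduct, Fin.sum_univ_four, cj, h2, h3, q_ne_zero hF] at h
      linear_combination h
    have hr : (-(y 1) * S.δ) ^ q = -(y 1) * S.δ := by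
      rw [mul_pow, neg_pow_q hF, eq_neg_of_add_eq_zero_right hiso, S.δ_skew]; ring
    set u := S.y (-(y 0) * S.δ) * (S.A wm * S.ψ (-(y 1) * S.δ) * (S.A wm)⁻¹)
    have hu : u ∈ H := mul_mem (by
        simp only [Setting.y]; exact mul_mem (mul_mem hs (hA _)) (inv_mem hs))
      (mul_mem (mul_mem (hA _) (hz _ hr)) (inv_mem (hA _)))
    have hθu : S.θ u = Qmat q S.δ 0 (-(y 0) * S.δ) (-(y 1) * S.δ) := by
      rw [show S.θ u = S.θ (S.y (-(y 0) * S.δ)) *
          S.θ (S.A wm * S.ψ (-(y 1) * S.δ) * (S.A wm)⁻¹) from map_mul _ _ _,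
        S.θ_conj (M := Qmat q S.δ 0 0 (-(y 1) * S.δ)) (by
          rw [S.θ_A, S.θ_ψ hr, wm_Qmat hF, zero_pow (q_ne_zero hF), neg_zero]),
        S.θ_y, Qmat_mul hF]
      simp
    have ha0 : -S.δ⁻¹ ≠ 0 := neg_ne_zero.2 (inv_ne_zero S.δ_ne)
    refine ⟨S.A (dg (Units.mk0 _ ha0)⁻¹) * (S.A wm * S.s * (u * S.A g)),
      mul_mem (hA _) (mul_mem (mul_mem (hA _) hs) (mul_mem hu (hA g))), ?_⟩
    rw [hap]
    congr 1
    rw [map_mul, map_mul S.θ (S.A wm * S.s), map_mul S.θ u, map_mul, ← mulVec_mulVec,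
      ← mulVec_mulVec, ← mulVec_mulVec, ← mulVec_mulVec, ← hy_def, hθu, S.θ_A, S.θ_A,
      Lmat_wm hF, Lmat_dg hF, S.θ_s]
    funext i
    fin_cases i <;>
      simp [Qmat, Smat, Dmat, Matrix.mulVec, dotProduct, Fin.sum_univ_four, h2, h3, S.δ_ne] <;>
      field_simp [S.δ_ne] <;> ring

end Cfsg.Agent.H68.ShortU4
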