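import Cfsg.Agent.H68.ShortU4.Kernel
import Cfsg.Agent.H68.ShortU4.Gen
import Cfsg.Agent.H68.SpPres.Bounds

/-!
`SU₄(q)` has a presentation with four generators and twenty-four relations.
-/

set_option autoImplicit false
set_option linter.unusedSectionVars false

namespace Cfsg.Agent.H68.ShortU4

open Cfsg Matrix Cfsg.Agent.Unitary Cfsg.Agent.H99.ShortPres Cfsg.Agent.H99.BoundedPres

variable {F : Type*} [Field F] [Fintype F] {q : ℕ}

local notation "SL2" => Matrix.SpecialLinearGroup (Fin 2) F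

/-- `SU₄(q)` needs one generator and fifteen relations more than `SL₂(q²)`. -/
theorem hasPres_su_four_of (hF : Fintype.card F = q ^ 2) {l : ℕ} (hl : HasPres SL2 3 l) :
    HasPres (SU 4 F q) 4 (l + 15) := by
  classical
  obtain ⟨T, S₀, hθ⟩ := exists_setting hF
  obtain ⟨f, rels, hcard, hgen, hsat, huniv⟩ := hl
  choose w hw using exists_word hgen
  have R₀ := rels_model T S₀ hθ
  obtain ⟨i3, j3, h3⟩ := R₀.e3
  obtain ⟨i12, j12, h12⟩ := R₀.e12
  let Φ : Fin 4 → SU 4 F q := Fin.snoc (fun i => S₀.A (f i)) S₀.s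
  let i0 : FreeGroup (Fin 3) →* FreeGroup (Fin 4) :=
    FreeGroup.lift fun i => FreeGroup.of i.castSucc
  let ω := S₀.ω
  let WA : SL2 → FreeGroup (Fin 4) := fun g => i0 (w g)
  let Ws : FreeGroup (Fin 4) := FreeGroup.of (Fin.last 3)
  let Wy : F → FreeGroup (Fin 4) := fun c => Ws * WA (up c) * Ws⁻¹
  let Wψ : F → FreeGroup (Fin 4) := fun r =>
    WA (up 1) * Wy (r * S₀.ε) * (WA (up 1))⁻¹ * (Wy (r * S₀.ε))⁻¹
  let Wa := WA (dg ω)
  let Wb := Ws * Wa * Ws⁻¹
  let Wz := Wψ 1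
  let Wz2 := WA wm * Wz * (WA wm)⁻¹
  let L : List (FreeGroup (Fin 4) × FreeGroup (Fin 4)) :=
    rels.toList.map (fun r => (i0 r, 1)) ++
      [(Ws * Wa ^ (q - 1), Wa ^ (q - 1) * Ws), (Wa * Wb, Wb * Wa),
        (Wb * WA (up 1) * Wb⁻¹, WA (up ((ω : F) / (ω : F) ^ q))),
        (Wb * WA wm * Wb⁻¹, WA (dg (ω / ω ^ q)) * WA wm),
        (Ws * Ws, Wa ^ i3 * Wb ^ j3),
        (Wz * WA (up 1), WA (up 1) * Wz), (Wz * WA (up (ω : F)), WA (up (ω : F)) * Wz),
        (Wa * Wz * Wa⁻¹, Wψ ((ω : F) * (ω : F) ^ q)),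
        (Wb * Wz * Wb⁻¹, Wa * Wz * Wa⁻¹), (Ws * Wz, Wz * Ws),
        (WA (up 1) * Wy S₀.δ, Wy S₀.δ * WA (up 1)),
        (WA wm * Wy 1 * (WA wm)⁻¹, Wy (-1)),
        (WA (up 1) * Wz2 * (WA (up 1))⁻¹, Wz2 * Wy 1 * Wz),
        (Ws * Wz2 * Ws⁻¹, Wz2⁻¹ * Ws * (Wa ^ i12 * Wb ^ j12) * Wz2⁻¹),
        (Ws * WA wm * Ws * WA wm, WA wm * (Ws * WA wm * Ws))]
  have hlen : L.length ≤ l + 15 := by
    simp only [L, List.length_append, List.length_map, Finset.length_toList, List.length_cons,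
      List.length_nil]
    omega
  have hΦA : ∀ v, FreeGroup.lift Φ (i0 v) = S₀.A (FreeGroup.lift f v) := fun v => by
    rw [SpPres.lift_castSucc]
    refine DFunLike.congr_fun (f := FreeGroup.lift fun i => Φ i.castSucc)
      (g := S₀.A.comp (FreeGroup.lift f)) (FreeGroup.ext_hom _ _ fun i => ?_) v
    simp [Φ]
  have hΦs : FreeGroup.lift Φ Ws = S₀.s := FreeGroup.lift_apply_of.trans (Fin.snoc_last _ _)
  have hΦW : ∀ g, FreeGroup.lift Φ (WA g) = S₀.A g := fun g => by rw [hΦA, hw]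
  refine HasPres.of_list L hlen Φ ?_ ?_ ?_
  · rw [eq_top_iff, ← gens_top T S₀ hθ, Subgroup.closure_le, ← FreeGroup.range_lift_eq_closure]
    rintro g (⟨k, rfl⟩ | rfl)
    · exact ⟨WA k, hΦW k⟩
    · exact ⟨Ws, hΦs⟩
  · intro r hr
    simp only [L, List.mem_append, List.mem_map, Finset.mem_toList, List.mem_cons,
      List.not_mem_nil, or_false] at hr
    rcases hr with ⟨u, hu, rfl⟩ | rfl | rfl | rfl | rfl | rfl | rfl | rfl | rfl | rfl | rfl | rfl |
      rfl | rfl | rfl | rfl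
    · rw [hΦA, hsat u hu, map_one, map_one]
    all_goals simp only [Wy, Wψ, Wa, Wb, Wz, Wz2, map_mul, map_inv, map_pow, hΦW, hΦs]
    exacts [R₀.e0.eq, R₀.e1.eq, R₀.e2, R₀.e2b.trans (map_mul _ _ _), h3, R₀.e5.eq, R₀.e5'.eq, R₀.e6,
      R₀.e7, R₀.e8.eq, R₀.e9.eq, R₀.e10, R₀.e11, h12, R₀.e13.eq]
  · intro G _ π hπ hrels θ hθ'
    have hL : ∀ a b, (a, b) ∈ L → π a = π b := fun a b hab => hrels (a, b) hab
    obtain ⟨A, hA⟩ := huniv G (fun i => π (FreeGroup.of i.castSucc)) fun r hr => by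
      have := hL (i0 r) 1 (List.mem_append_left _ (List.mem_map.2 ⟨r, Finset.mem_toList.2 hr, rfl⟩))
      rw [map_one] at this
      rw [← this, ← MonoidHom.comp_apply]
      exact DFunLike.congr_fun (FreeGroup.ext_hom _ _ fun i => by simp [i0]) r
    have hπA : ∀ g, π (WA g) = A g := fun g => by
      conv_rhs => rw [← hw g]
      show (π.comp i0) (w g) = (A.comp (FreeGroup.lift f)) (w g)
      exact DFunLike.congr_fun (FreeGroup.ext_hom _ _ fun i => by simp [i0, hA]) _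
    have hval : ∀ y, θ (π y) = FreeGroup.lift Φ y := fun y => DFunLike.congr_fun hθ' y
    let S : Setting F q G :=
      { hF := hF, θ := T.fm.comp θ, A := A, s := π Ws, δ := S₀.δ, ε := S₀.ε, ω := ω,
        δ_ne := S₀.δ_ne, δ_skew := S₀.δ_skew, ε_tr := S₀.ε_tr, ω_gen := S₀.ω_gen,
        θ_A := fun g => by
          show T.fm (θ (A g)) = _
          rw [← hπA, hval, hΦW, ← hθ, S₀.θ_A]
        θ_s := by
          show T.fm (θ (π Ws)) = _
          rw [hval, hΦs, ← hθ, S₀.θ_s] }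
    have tr : ∀ a b, (a, b) ∈ L → π a = π b := hL
    have R : Rels S := by
      refine ⟨?_, ?_, ?_, ?_, ⟨i3, j3, ?_⟩, ?_, ?_, ?_, ?_, ?_, ?_, ?_, ?_, ⟨i12, j12, ?_⟩, ?_⟩
      · simpa [Setting.a, Wa, hπA, S, Commute, SemiconjBy] using
          tr (Ws * Wa ^ (q - 1)) (Wa ^ (q - 1) * Ws) (by simp [L])
      · simpa [Setting.a, Setting.b, Wa, Wb, hπA, S, Commute, SemiconjBy] using
          tr (Wa * Wb) (Wb * Wa) (by simp [L])
      · simpa [Setting.a, Setting.b, Wa, Wb, hπA, S] using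
          tr (Wb * WA (up 1) * Wb⁻¹) (WA (up ((ω : F) / (ω : F) ^ q))) (by simp [L])
      · simpa [Setting.a, Setting.b, Wa, Wb, hπA, S] using
          tr (Wb * WA wm * Wb⁻¹) (WA (dg (ω / ω ^ q)) * WA wm) (by simp [L])
      · simpa [Setting.a, Setting.b, Wa, Wb, hπA, S] using
          tr (Ws * Ws) (Wa ^ i3 * Wb ^ j3) (by simp [L])
      · simpa [Setting.z, Setting.ψ, Setting.y, Wz, Wψ, Wy, hπA, S, Commute, SemiconjBy] using
          tr (Wz * WA (up 1)) (WA (up 1) * Wz) (by simp [L])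
      · simpa [Setting.z, Setting.ψ, Setting.y, Wz, Wψ, Wy, hπA, S, Commute, SemiconjBy] using
          tr (Wz * WA (up (ω : F))) (WA (up (ω : F)) * Wz) (by simp [L])
      · simpa [Setting.a, Setting.z, Setting.ψ, Setting.y, Wa, Wz, Wψ, Wy, hπA, S] using
          tr (Wa * Wz * Wa⁻¹) (Wψ ((ω : F) * (ω : F) ^ q)) (by simp [L])
      · simpa [Setting.a, Setting.b, Setting.z, Setting.ψ, Setting.y, Wa, Wb, Wz, Wψ, Wy, hπA, S]
          using tr (Wb * Wz * Wb⁻¹) (Wa * Wz * Wa⁻¹) (by simp [L])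
      · simpa [Setting.z, Setting.ψ, Setting.y, Wz, Wψ, Wy, hπA, S, Commute, SemiconjBy] using
          tr (Ws * Wz) (Wz * Ws) (by simp [L])
      · simpa [Setting.y, Wy, hπA, S, Commute, SemiconjBy] using
          tr (WA (up 1) * Wy S₀.δ) (Wy S₀.δ * WA (up 1)) (by simp [L])
      · simpa [Setting.y, Wy, hπA, S] using
          tr (WA wm * Wy 1 * (WA wm)⁻¹) (Wy (-1)) (by simp [L])
      · simpa [Setting.z2, Setting.z, Setting.ψ, Setting.y, Wz2, Wz, Wψ, Wy, hπA, S] using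
          tr (WA (up 1) * Wz2 * (WA (up 1))⁻¹) (Wz2 * Wy 1 * Wz) (by simp [L])
      · simpa [Setting.a, Setting.b, Setting.z2, Setting.z, Setting.ψ, Setting.y, Wa, Wb, Wz2, Wz,
          Wψ, Wy, hπA, S] using
          tr (Ws * Wz2 * Ws⁻¹) (Wz2⁻¹ * Ws * (Wa ^ i12 * Wb ^ j12) * Wz2⁻¹) (by simp [L])
      · simpa [hπA, S, Commute, SemiconjBy] using
          tr (Ws * WA wm * Ws * WA wm) (WA wm * (Ws * WA wm * Ws)) (by simp [L])
    have hG : Subgroup.closure ((S.A.range : Set G) ∪ {S.s}) = ⊤ := by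
      rw [eq_top_iff, ← Subgroup.map_top_of_surjective π hπ, ← FreeGroup.closure_range_of,
        MonoidHom.map_closure, Subgroup.closure_le]
      rintro _ ⟨_, ⟨i, rfl⟩, rfl⟩
      refine Subgroup.subset_closure ?_
      induction i using Fin.lastCases with
      | last => exact Or.inr rfl
      | cast i => exact Or.inl ⟨f i, hA i⟩
    exact (injective_iff_map_eq_one θ).2 fun g hg =>
      R.kernel_trivial hG (show T.fm (θ g) = 1 by rw [hg, map_one])

/-- `SU₄(q)` has a presentation with four generators and twenty-four relations. -/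
theorem hasPres_su_four (hF : Fintype.card F = q ^ 2) : HasPres (SU 4 F q) 4 24 :=
  hasPres_su_four_of hF (SpPres.hasPres_sl_two (F := F)).1

end Cfsg.Agent.H68.ShortU4
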