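import Cfsg.Agent.H68.ShortU4.Torus

/-!
The unipotent radicals of the two maximal parabolic subgroups from the relations, and the
injectivity on the parabolic subgroup with abelian radical.
-/

set_option autoImplicit false
set_option linter.unusedSectionVars false

namespace Cfsg.Agent.H68.ShortU4

open Matrix Cfsg.Agent.Unitary Cfsg.Agent.H99.ShortPres

variable {F : Type*} [Field F] [Fintype F] {q : ℕ} {G : Type*} [Group G]

local notation "SL2" => Matrix.SpecialLinearGroup (Fin 2) F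

/-- Squares of fixed elements span the fixed field additively. -/
theorem fixed_closure_sq (hF : Fintype.card F = q ^ 2) (T : AddSubgroup F)
    (h : ∀ t : F, t ^ q = t → t ≠ 0 → t * t ∈ T) {x : F} (hx : x ^ q = x) : x ∈ T := by
  haveI : Fintype (fixK hF) := Fintype.ofFinite _
  exact add_closure_sq (T.comap (fixK hF).subtype.toAddMonoidHom)
    (fun t ht => h t t.2 fun e => ht (Subtype.ext e)) ⟨x, hx⟩

/-- The conjugates of the long root element under the torus. -/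
abbrev Setting.zw (S : Setting F q G) : Subgroup G :=
  Subgroup.closure {g | ∃ d ∈ Subgroup.closure ({S.a, S.b} : Set G), g = d * S.z * d⁻¹}

namespace Rels

variable {S : Setting F q G} (R : Rels S)
include R

theorem up_neg (c : F) : S.A (up (-c)) = (S.A (up c))⁻¹ :=
  eq_inv_of_mul_eq_one_left (by rw [← map_mul, ← up_add, neg_add_cancel, up_zero, map_one])

theorem y_neg (c : F) : S.y (-c) = (S.y c)⁻¹ :=
  eq_inv_of_mul_eq_one_left (by rw [← S.y_add, neg_add_cancel, S.y_zero])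

theorem dg_mem_tor (t : Fˣ) : S.A (dg t) ∈ R.tor := by
  obtain ⟨k, rfl⟩ := mem_powers_iff_mem_zpowers.2 (S.ω_gen t)
  show S.A (dg (S.ω ^ k)) ∈ R.tor
  rw [← dg_pow, map_pow]; exact pow_mem R.a_mem k

theorem z_tor_conj (i j : ℕ) :
    S.a ^ i * S.b ^ j * S.z * (S.a ^ i * S.b ^ j)⁻¹ = S.a ^ (i + j) * S.z * (S.a ^ (i + j))⁻¹ := by
  have hb : ∀ k : ℕ, S.b ^ k * S.z * (S.b ^ k)⁻¹ = S.a ^ k * S.z * (S.a ^ k)⁻¹ := by
    intro k
    induction k with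
    | zero => simp
    | succ k ih =>
      calc S.b ^ (k + 1) * S.z * (S.b ^ (k + 1))⁻¹
          = S.b * (S.b ^ k * S.z * (S.b ^ k)⁻¹) * S.b⁻¹ := by rw [pow_succ']; group
        _ = S.b * S.a ^ k * S.z * (S.b * S.a ^ k)⁻¹ := by rw [ih]; group
        _ = S.a ^ k * (S.b * S.z * S.b⁻¹) * (S.a ^ k)⁻¹ := by
            rw [← (R.e1.pow_left k).eq]; group
        _ = _ := by rw [R.e7, pow_succ]; group
  calc S.a ^ i * S.b ^ j * S.z * (S.a ^ i * S.b ^ j)⁻¹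
      = S.a ^ i * (S.b ^ j * S.z * (S.b ^ j)⁻¹) * (S.a ^ i)⁻¹ := by group
    _ = _ := by rw [hb, pow_add]; group

theorem z_conj_pow {g : G} (hg : g ∈ R.tor) {t₁ t₂ : F} (h : S.θ g = Dmat q t₁ t₂) :
    ∃ k : ℕ, (S.ω : F) ^ k = t₁ ∧ g * S.z * g⁻¹ = S.a ^ k * S.z * (S.a ^ k)⁻¹ := by
  obtain ⟨i, j, rfl⟩ := R.tor_form hg
  refine ⟨i + j, ?_, R.z_tor_conj i j⟩
  have := congrFun (congrFun ((R.θ_ab i j).symm.trans h) 0) 0
  simpa [Dmat, pow_add] using this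

theorem z_fixed {g : G} (hg : g ∈ R.tor) {t₂ : F} (h : S.θ g = Dmat q 1 t₂) : Commute g S.z := by
  obtain ⟨k, hk, e⟩ := R.z_conj_pow hg h
  rw [R.a_pow_period hk, one_mul, inv_one, mul_one] at e
  exact mul_inv_eq_iff_eq_mul.1 e

theorem z_comm_up (c : F) : Commute S.z (S.A (up c)) := by
  let C : AddSubgroup F :=
    { carrier := {c | Commute S.z (S.A (up c))}
      zero_mem' := by show Commute _ _; rw [up_zero, map_one]; exact Commute.one_right _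
      add_mem' := fun hc hd => by
        show Commute _ _; rw [up_add, map_mul]; exact Commute.mul_right hc hd
      neg_mem' := fun hc => by
        show Commute _ _; rw [R.up_neg]; exact Commute.inv_right hc }
  have hscale : ∀ r : F, r ^ q = r → ∀ c ∈ C, r * c ∈ C := by
    intro r hr c hc
    rcases eq_or_ne r 0 with rfl | hr0
    · rw [zero_mul]; exact C.zero_mem
    obtain ⟨g, hg, e⟩ := R.exists_tor one_ne_zero (inv_ne_zero hr0)
      (by rw [one_mul, inv_pow, hr])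
    have h1 := (show Commute S.z (S.A (up c)) from hc).map (MulAut.conj g)
    rw [MulAut.conj_apply, MulAut.conj_apply, R.conj_up_eq hg one_ne_zero (inv_ne_zero hr0) e,
      (R.z_fixed hg e).eq, mul_inv_cancel_right, one_div, inv_inv] at h1
    exact h1
  have hF := S.hF
  set w := (S.ω : F)
  have hne : w - w ^ q ≠ 0 := by
    intro h
    have hw : S.ω ^ (q - 1) = 1 := Units.ext (by
      simpa using pow_sub_one_eq_one hF S.ω.ne_zero (sub_eq_zero.1 h).symm)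
    have h4 := orderOf_le_of_pow_eq_one (by have := two_le_q hF; omega) hw
    rw [orderOf_eq_card_of_forall_mem_zpowers S.ω_gen, Nat.card_units, Nat.card_eq_fintype_card,
      hF] at h4
    have h9 : 2 * q ≤ q ^ 2 := by rw [pow_two]; exact Nat.mul_le_mul_right q (two_le_q hF)
    have := two_le_q hF
    omega
  set r₂ := (c - c ^ q) / (w - w ^ q)
  have hne' : w ^ q - w ≠ 0 := fun h => hne (by linear_combination -h)
  have hr₂ : r₂ ^ q = r₂ := by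
    show ((c - c ^ q) / (w - w ^ q)) ^ q = _
    rw [div_pow, sub_pow_q hF, sub_pow_q hF, pow_q_q hF, pow_q_q hF, div_eq_div_iff hne' hne]
    ring
  have hr₁ : (c - r₂ * w) ^ q = c - r₂ * w := by
    rw [sub_pow_q hF, mul_pow, hr₂]
    have : r₂ * (w - w ^ q) = c - c ^ q := div_mul_cancel₀ _ hne
    linear_combination this
  have h : (c - r₂ * w) * 1 + r₂ * w ∈ C :=
    C.add_mem (hscale _ hr₁ 1 R.e5) (hscale _ hr₂ w R.e5')
  rw [mul_one, sub_add_cancel] at h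
  exact h

theorem z_comm_y (c : F) : Commute S.z (S.y c) := by
  have h := (R.z_comm_up c).map (MulAut.conj S.s)
  rw [MulAut.conj_apply, MulAut.conj_apply, R.e8.eq, mul_inv_cancel_right] at h
  exact h

theorem z_mem_Zw : S.z ∈ S.zw := Subgroup.subset_closure ⟨1, one_mem _, by simp⟩

theorem Zw_tor {d : G} (hd : d ∈ R.tor) {w : G} (hw : w ∈ S.zw) : d * w * d⁻¹ ∈ S.zw := by
  have h : S.zw ≤ (S.zw).comap (MulAut.conj d).toMonoidHom := by
    refine (Subgroup.closure_le _).mpr ?_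
    rintro _ ⟨e, he, rfl⟩
    exact Subgroup.subset_closure ⟨d * e, mul_mem hd he, by simp [MulAut.conj_apply, mul_assoc]⟩
  exact h hw

theorem Zw_comm {w : G} (hw : w ∈ S.zw) (c : F) :
    Commute w (S.A (up c)) ∧ Commute w (S.y c) := by
  induction hw using Subgroup.closure_induction with
  | mem w hw =>
    obtain ⟨d, hd, rfl⟩ := hw
    obtain ⟨t₁, t₂, h₁, h₂, -, e⟩ := R.θ_tor hd
    constructor
    · have h := (R.z_comm_up (t₂ / t₁ * c)).map (MulAut.conj d)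
      rw [MulAut.conj_apply, MulAut.conj_apply, R.conj_up_eq hd h₁ h₂ e, ← mul_assoc,
        show t₁ / t₂ * (t₂ / t₁) = 1 by field_simp, one_mul] at h
      exact h
    · have h := (R.z_comm_y (c / (t₁ * t₂ ^ q))).map (MulAut.conj d)
      rw [MulAut.conj_apply, MulAut.conj_apply, R.conj_y_eq hd h₁ h₂ e,
        mul_div_cancel₀ _ (mul_ne_zero h₁ (pow_ne_zero _ h₂))] at h
      exact h
  | one => exact ⟨Commute.one_left _, Commute.one_left _⟩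
  | mul a b _ _ ha hb => exact ⟨ha.1.mul_left hb.1, ha.2.mul_left hb.2⟩
  | inv a _ ha => exact ⟨ha.1.inv_left, ha.2.inv_left⟩

theorem comm_add {u : G} (hu : ∃ c, u = S.A (up c)) {e e' : F}
    (h : u * S.y e * u⁻¹ * (S.y e)⁻¹ ∈ S.zw) (h' : u * S.y e' * u⁻¹ * (S.y e')⁻¹ ∈ S.zw) :
    u * S.y (e + e') * u⁻¹ * (S.y (e + e'))⁻¹ =
      (u * S.y e * u⁻¹ * (S.y e)⁻¹) * (u * S.y e' * u⁻¹ * (S.y e')⁻¹) := by
  set B' := u * S.y e' * u⁻¹ * (S.y e')⁻¹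
  have c1 : S.y e * B' * (S.y e)⁻¹ = B' := by
    rw [← (R.Zw_comm h' e).2.eq, mul_inv_cancel_right]
  conv_rhs => rw [← c1]
  rw [S.y_add]
  show _ = _ * (S.y e * (u * S.y e' * u⁻¹ * (S.y e')⁻¹) * (S.y e)⁻¹)
  group

theorem up_one_comm_mem (e : F) :
    S.A (up 1) * S.y e * (S.A (up 1))⁻¹ * (S.y e)⁻¹ ∈ S.zw := by
  let V : AddSubgroup F :=
    { carrier := {e | S.A (up 1) * S.y e * (S.A (up 1))⁻¹ * (S.y e)⁻¹ ∈ S.zw}
      zero_mem' := by show _ ∈ S.zw; simp [S.y_zero]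
      add_mem' := fun {e e'} he he' => by
        show _ ∈ S.zw
        rw [R.comm_add ⟨1, rfl⟩ he he']
        exact mul_mem he he'
      neg_mem' := fun {e} he => by
        show _ ∈ S.zw
        have he' : S.A (up 1) * S.y e * (S.A (up 1))⁻¹ * (S.y e)⁻¹ ∈ S.zw := he
        have h2 := inv_mem he'
        have hc := (R.Zw_comm h2 (-e)).2.eq
        rw [R.y_neg] at hc ⊢
        have e2 : S.A (up 1) * (S.y e)⁻¹ * (S.A (up 1))⁻¹ * ((S.y e)⁻¹)⁻¹ =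
            (S.y e)⁻¹ * (S.A (up 1) * S.y e * (S.A (up 1))⁻¹ * (S.y e)⁻¹)⁻¹ * ((S.y e)⁻¹)⁻¹ := by
          group
        rw [e2, ← hc, mul_inv_cancel_right]
        exact h2 }
  have hsc : ∀ e₀ ∈ V, ∀ r : F, r ^ q = r → r * e₀ ∈ V := by
    intro e₀ he₀ r hr
    have h1 := fixed_closure_sq S.hF (V.comap (AddMonoidHom.mulRight e₀)) (fun t ht ht0 => ?_) hr
    · exact h1
    show t * t * e₀ ∈ V
    obtain ⟨g, hg, eg⟩ := R.exists_tor ht0 ht0 (by rw [mul_pow, ht])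
    have h := R.Zw_tor hg he₀
    show _ ∈ S.zw
    rw [show g * (S.A (up 1) * S.y e₀ * (S.A (up 1))⁻¹ * (S.y e₀)⁻¹) * g⁻¹ =
      (g * S.A (up 1) * g⁻¹) * (g * S.y e₀ * g⁻¹) * (g * S.A (up 1) * g⁻¹)⁻¹
        * (g * S.y e₀ * g⁻¹)⁻¹ by group, R.conj_up_eq hg ht0 ht0 eg, R.conj_y_eq hg ht0 ht0 eg,
      div_self ht0, one_mul, ht] at h
    exact h
  have hε : S.ε ∈ V := by
    show _ ∈ S.zw
    have : S.z = S.A (up 1) * S.y S.ε * (S.A (up 1))⁻¹ * (S.y S.ε)⁻¹ := by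
      rw [Setting.z, Setting.ψ, one_mul]
    rw [← this]; exact R.z_mem_Zw
  have hδ : S.δ ∈ V := by
    show _ ∈ S.zw
    rw [R.e9.eq, mul_inv_cancel_right, mul_inv_cancel]
    exact one_mem _
  have hF := S.hF
  set r₁ := e + e ^ q
  have hr₁ : r₁ ^ q = r₁ := trace_pow_q hF e
  have hr₂ : ((e - r₁ * S.ε) / S.δ) ^ q = (e - r₁ * S.ε) / S.δ := by
    rw [div_pow, sub_pow_q hF, mul_pow, hr₁, S.δ_skew, div_neg, ← neg_div]
    congr 1
    linear_combination r₁ * S.ε_tr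
  have h := V.add_mem (hsc _ hε _ hr₁) (hsc _ hδ _ hr₂)
  rw [div_mul_cancel₀ _ S.δ_ne, add_sub_cancel] at h
  exact h

theorem ψ_add (r r' : F) : S.ψ (r + r') = S.ψ r * S.ψ r' := by
  rw [Setting.ψ, Setting.ψ, Setting.ψ, add_mul]
  exact R.comm_add ⟨1, rfl⟩ (R.up_one_comm_mem _) (R.up_one_comm_mem _)

theorem ψ_zero : S.ψ 0 = 1 := by simp [Setting.ψ, S.y_zero]

theorem ψ_conj {g : G} (hg : g ∈ R.tor) {t : F} (ht : t ^ q = t) (ht0 : t ≠ 0)
    (e : S.θ g = Dmat q t t) (r : F) : g * S.ψ r * g⁻¹ = S.ψ (t * t * r) := by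
  rw [Setting.ψ, Setting.ψ, show g * (S.A (up 1) * S.y (r * S.ε) * (S.A (up 1))⁻¹
      * (S.y (r * S.ε))⁻¹) * g⁻¹ = (g * S.A (up 1) * g⁻¹) * (g * S.y (r * S.ε) * g⁻¹)
      * (g * S.A (up 1) * g⁻¹)⁻¹ * (g * S.y (r * S.ε) * g⁻¹)⁻¹ by group,
    R.conj_up_eq hg ht0 ht0 e, R.conj_y_eq hg ht0 ht0 e, div_self ht0, one_mul, ht, ← mul_assoc]

theorem a_conj_ψ {r : F} (hr : r ^ q = r) :
    S.a * S.ψ r * S.a⁻¹ = S.ψ ((S.ω : F) * (S.ω : F) ^ q * r) := by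
  set N := (S.ω : F) * (S.ω : F) ^ q
  let T : AddSubgroup F :=
    { carrier := {r | S.a * S.ψ r * S.a⁻¹ = S.ψ (N * r)}
      zero_mem' := by show _ = _; simp [R.ψ_zero]
      add_mem' := fun {c d} hc hd => by
        show _ = _
        have hc' : S.a * S.ψ c * S.a⁻¹ = S.ψ (N * c) := hc
        have hd' : S.a * S.ψ d * S.a⁻¹ = S.ψ (N * d) := hd
        rw [mul_add, R.ψ_add, R.ψ_add, ← hc', ← hd']; group
      neg_mem' := fun {c} hc => by
        show _ = _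
        have hc' : S.a * S.ψ c * S.a⁻¹ = S.ψ (N * c) := hc
        have hn : ∀ x : F, S.ψ (-x) = (S.ψ x)⁻¹ := fun x =>
          eq_inv_of_mul_eq_one_left (by rw [← R.ψ_add, neg_add_cancel, R.ψ_zero])
        rw [mul_neg, hn, hn, ← hc']; group }
  refine fixed_closure_sq S.hF T (fun t ht ht0 => ?_) hr
  show _ = _
  obtain ⟨g, hg, eg⟩ := R.exists_tor ht0 ht0 (by rw [mul_pow, ht])
  have h1 := R.ψ_conj hg ht ht0 eg 1
  have h2 := R.ψ_conj hg ht ht0 eg N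
  rw [mul_one] at h1
  rw [← h1, mul_comm N, ← h2, show S.ψ N = S.a * S.z * S.a⁻¹ from R.e6.symm]
  show S.a * (g * S.z * g⁻¹) * S.a⁻¹ = g * (S.a * S.z * S.a⁻¹) * g⁻¹
  calc S.a * (g * S.z * g⁻¹) * S.a⁻¹ = (S.a * g) * S.z * (S.a * g)⁻¹ := by group
    _ = (g * S.a) * S.z * (g * S.a)⁻¹ := by rw [(R.tor_comm R.a_mem hg).eq]
    _ = _ := by group

theorem a_pow_z (k : ℕ) :
    S.a ^ k * S.z * (S.a ^ k)⁻¹ = S.ψ (((S.ω : F) * (S.ω : F) ^ q) ^ k) := by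
  induction k with
  | zero => simp [Setting.z]
  | succ k ih =>
    have hfix : (((S.ω : F) * (S.ω : F) ^ q) ^ k) ^ q = ((S.ω : F) * (S.ω : F) ^ q) ^ k := by
      rw [pow_right_comm, norm_pow_q S.hF]
    rw [pow_succ' ((S.ω : F) * _), ← R.a_conj_ψ hfix, ← ih, pow_succ']
    group

theorem Zw_form {w : G} (hw : w ∈ S.zw) : ∃ r : F, r ^ q = r ∧ w = S.ψ r := by
  induction hw using Subgroup.closure_induction with
  | mem w hw =>
    obtain ⟨d, hd, rfl⟩ := hw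
    obtain ⟨i, j, rfl⟩ := R.tor_form hd
    refine ⟨_, ?_, (R.z_tor_conj i j).trans (R.a_pow_z (i + j))⟩
    rw [pow_right_comm, norm_pow_q S.hF]
  | one => exact ⟨0, zero_pow (q_ne_zero S.hF), R.ψ_zero.symm⟩
  | mul a b _ _ ha hb =>
    obtain ⟨r, hr, rfl⟩ := ha
    obtain ⟨r', hr', rfl⟩ := hb
    exact ⟨r + r', by rw [add_pow_q S.hF, hr, hr'], (R.ψ_add r r').symm⟩
  | inv a _ ha =>
    obtain ⟨r, hr, rfl⟩ := ha
    exact ⟨-r, by rw [neg_pow_q S.hF, hr],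
      inv_eq_of_mul_eq_one_right (by rw [← R.ψ_add, add_neg_cancel, R.ψ_zero])⟩

theorem ψ_mem (r : F) : S.ψ r ∈ S.zw := R.up_one_comm_mem _

theorem s_comm_Zw {w : G} (hw : w ∈ S.zw) : Commute S.s w := by
  induction hw using Subgroup.closure_induction with
  | mem w hw =>
    obtain ⟨d, hd, rfl⟩ := hw
    obtain ⟨i, j, rfl⟩ := R.tor_form hd
    rw [R.z_tor_conj i j]
    have e : S.b ^ (i + j) * S.z * (S.b ^ (i + j))⁻¹ = S.a ^ (i + j) * S.z * (S.a ^ (i + j))⁻¹ := by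
      have := R.z_tor_conj 0 (i + j)
      simpa using this
    refine mul_inv_eq_iff_eq_mul.1 ?_
    conv_rhs => rw [← e, Setting.b, conj_pow]
    have hz : S.s⁻¹ * S.z * S.s = S.z := by rw [mul_assoc, ← R.e8.eq, inv_mul_cancel_left]
    calc S.s * (S.a ^ (i + j) * S.z * (S.a ^ (i + j))⁻¹) * S.s⁻¹
        = S.s * (S.a ^ (i + j) * (S.s⁻¹ * S.z * S.s) * (S.a ^ (i + j))⁻¹) * S.s⁻¹ := by rw [hz]
      _ = _ := by group
  | one => exact Commute.one_right _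
  | mul a b _ _ ha hb => exact ha.mul_right hb
  | inv a _ ha => exact ha.inv_right

theorem comm_up_y_mem (c e : F) :
    S.A (up c) * S.y e * (S.A (up c))⁻¹ * (S.y e)⁻¹ ∈ S.zw := by
  let W : AddSubgroup F :=
    { carrier := {c | ∀ e, S.A (up c) * S.y e * (S.A (up c))⁻¹ * (S.y e)⁻¹ ∈ S.zw}
      zero_mem' := fun e => by simp [up_zero]
      add_mem' := fun {c d} hc hd e => by
        have h1 := (R.Zw_comm (hd e) c).1
        rw [up_add, map_mul, show S.A (up c) * S.A (up d) * S.y e * (S.A (up c) * S.A (up d))⁻¹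
          * (S.y e)⁻¹ = S.A (up c) * (S.A (up d) * S.y e * (S.A (up d))⁻¹ * (S.y e)⁻¹)
            * (S.A (up c))⁻¹ * (S.A (up c) * S.y e * (S.A (up c))⁻¹ * (S.y e)⁻¹) by group,
          ← h1.eq, mul_inv_cancel_right]
        exact mul_mem (hd e) (hc e)
      neg_mem' := fun {c} hc e => by
        have h1 := (R.Zw_comm (inv_mem (hc e)) (-c)).1
        have e2 : S.A (up (-c)) * S.y e * (S.A (up (-c)))⁻¹ * (S.y e)⁻¹ =
            S.A (up (-c)) * (S.A (up c) * S.y e * (S.A (up c))⁻¹ * (S.y e)⁻¹)⁻¹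
              * (S.A (up (-c)))⁻¹ := by
          rw [R.up_neg]; group
        rw [e2, ← h1.eq, mul_inv_cancel_right]
        exact inv_mem (hc e) }
  refine add_closure_sq W (fun t ht e => ?_) c e
  have htor := R.dg_mem_tor (Units.mk0 t ht)
  have eθ : S.θ (S.A (dg (Units.mk0 t ht))) = Dmat q t t⁻¹ := by
    rw [S.θ_A, Lmat_dg S.hF, Units.val_mk0]
  have hpos : t * (t⁻¹) ^ q ≠ 0 := mul_ne_zero ht (pow_ne_zero _ (inv_ne_zero ht))
  have h := R.Zw_tor htor (R.up_one_comm_mem (e / (t * (t⁻¹) ^ q)))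
  set g := S.A (dg (Units.mk0 t ht))
  rw [show g * (S.A (up 1) * S.y (e / (t * t⁻¹ ^ q)) * (S.A (up 1))⁻¹
      * (S.y (e / (t * t⁻¹ ^ q)))⁻¹) * g⁻¹ = (g * S.A (up 1) * g⁻¹)
      * (g * S.y (e / (t * t⁻¹ ^ q)) * g⁻¹) * (g * S.A (up 1) * g⁻¹)⁻¹
      * (g * S.y (e / (t * t⁻¹ ^ q)) * g⁻¹)⁻¹ by group,
    R.conj_up_eq htor ht (inv_ne_zero ht) eθ, R.conj_y_eq htor ht (inv_ne_zero ht) eθ,
    mul_div_cancel₀ _ hpos, mul_one, div_inv_eq_mul] at h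
  exact h

/-- The radical of the stabiliser of a point. -/
def urad : Subgroup G where
  carrier := {g | ∃ a c, ∃ w ∈ S.zw, g = S.A (up a) * S.y c * w}
  one_mem' := ⟨0, 0, 1, one_mem _, by simp [up_zero, S.y_zero]⟩
  mul_mem' := by
    rintro _ _ ⟨a, c, w, hw, rfl⟩ ⟨a', c', w', hw', rfl⟩
    set B := S.A (up a') * S.y c * (S.A (up a'))⁻¹ * (S.y c)⁻¹
    have hB : B ∈ S.zw := R.comm_up_y_mem a' c
    refine ⟨a + a', c + c', B⁻¹ * w * w', mul_mem (mul_mem (inv_mem hB) hw) hw', ?_⟩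
    have e1 : S.y c * S.A (up a') = B⁻¹ * (S.A (up a') * S.y c) := by simp [B, mul_assoc]
    have h1 := (R.Zw_comm hw a').1.eq
    have h2 := (R.Zw_comm hw c').2.eq
    have h3 : Commute B⁻¹ (S.A (up a') * S.y c * S.y c') :=
      (((R.Zw_comm (inv_mem hB) a').1.mul_right (R.Zw_comm (inv_mem hB) c).2).mul_right
        (R.Zw_comm (inv_mem hB) c').2)
    calc S.A (up a) * S.y c * w * (S.A (up a') * S.y c' * w')
        = S.A (up a) * S.y c * (w * S.A (up a')) * S.y c' * w' := by simp only [mul_assoc]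
      _ = S.A (up a) * (S.y c * S.A (up a')) * (w * S.y c') * w' := by
          rw [h1]; simp only [mul_assoc]
      _ = S.A (up a) * (B⁻¹ * (S.A (up a') * S.y c * S.y c')) * (w * w') := by
          rw [e1, h2]; simp only [mul_assoc]
      _ = _ := by rw [h3.eq, up_add, map_mul, S.y_add]; simp only [mul_assoc]
  inv_mem' := by
    rintro _ ⟨a, c, w, hw, rfl⟩
    set B := S.A (up (-a)) * S.y (-c) * (S.A (up (-a)))⁻¹ * (S.y (-c))⁻¹
    have hB : B ∈ S.zw := R.comm_up_y_mem (-a) (-c)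
    refine ⟨-a, -c, B⁻¹ * w⁻¹, mul_mem (inv_mem hB) (inv_mem hw), ?_⟩
    have hw1 := (R.Zw_comm (inv_mem hw) (-a)).1
    have hw2 := (R.Zw_comm (inv_mem hw) (-c)).2
    have h3 : Commute B⁻¹ (S.A (up (-a)) * S.y (-c)) :=
      (R.Zw_comm (inv_mem hB) (-a)).1.mul_right (R.Zw_comm (inv_mem hB) (-c)).2
    calc (S.A (up a) * S.y c * w)⁻¹ = w⁻¹ * (S.y (-c) * S.A (up (-a))) := by
          rw [R.y_neg, R.up_neg]; group
      _ = (S.y (-c) * S.A (up (-a))) * w⁻¹ := (hw2.mul_right hw1).eq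
      _ = B⁻¹ * (S.A (up (-a)) * S.y (-c)) * w⁻¹ := by simp [B, mul_assoc]
      _ = _ := by rw [h3.eq, mul_assoc]

theorem θ_urad (a c : F) {w : G} (hw : w ∈ S.zw) : ∃ r, r ^ q = r ∧ w = S.ψ r ∧
    S.θ (S.A (up a) * S.y c * w) = Lmat q (up a) * Qmat q S.δ r c 0 := by
  obtain ⟨r, hr, rfl⟩ := R.Zw_form hw
  refine ⟨r, hr, rfl, ?_⟩
  rw [map_mul, map_mul, S.θ_A, S.θ_y, S.θ_ψ hr, mul_assoc, Qmat_mul S.hF, zero_add, add_zero,
    add_zero]

theorem up_mem_urad (c : F) : S.A (up c) ∈ R.urad := ⟨c, 0, 1, one_mem _, by simp [S.y_zero]⟩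

theorem y_mem_urad (c : F) : S.y c ∈ R.urad := ⟨0, c, 1, one_mem _, by simp [up_zero]⟩

theorem Zw_mem_urad {w : G} (hw : w ∈ S.zw) : w ∈ R.urad :=
  ⟨0, 0, w, hw, by simp [up_zero, S.y_zero]⟩

theorem tor_urad {d g : G} (hd : d ∈ R.tor) (hg : g ∈ R.urad) : d * g * d⁻¹ ∈ R.urad := by
  obtain ⟨a, c, w, hw, rfl⟩ := hg
  obtain ⟨t₁, t₂, h₁, h₂, -, e⟩ := R.θ_tor hd
  rw [show d * (S.A (up a) * S.y c * w) * d⁻¹ =
    (d * S.A (up a) * d⁻¹) * (d * S.y c * d⁻¹) * (d * w * d⁻¹) by group]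
  exact mul_mem (mul_mem (by rw [R.conj_up_eq hd h₁ h₂ e]; exact R.up_mem_urad _)
    (by rw [R.conj_y_eq hd h₁ h₂ e]; exact R.y_mem_urad _)) (R.Zw_mem_urad (R.Zw_tor hd hw))

theorem s_y (c : F) : ∃ c', S.s * S.y c * S.s⁻¹ = S.A (up c') := by
  obtain ⟨c', hc'⟩ := R.tor_conj_up R.s_sq_mem c
  exact ⟨c', by rw [← hc', Setting.y]; group⟩

theorem s_urad {g : G} (hg : g ∈ R.urad) : S.s * g * S.s⁻¹ ∈ R.urad := by
  obtain ⟨a, c, w, hw, rfl⟩ := hg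
  obtain ⟨c', hc'⟩ := R.s_y c
  rw [show S.s * (S.A (up a) * S.y c * w) * S.s⁻¹ =
    (S.s * S.A (up a) * S.s⁻¹) * (S.s * S.y c * S.s⁻¹) * (S.s * w * S.s⁻¹) by group, hc',
    (R.s_comm_Zw hw).eq, mul_inv_cancel_right]
  exact mul_mem (mul_mem (R.y_mem_urad a) (R.up_mem_urad c')) (R.Zw_mem_urad hw)

theorem s_inv_urad {g : G} (hg : g ∈ R.urad) : S.s⁻¹ * g * S.s ∈ R.urad := by
  have h := R.tor_urad (inv_mem R.s_sq_mem) (R.s_urad hg)
  rwa [show (S.s * S.s)⁻¹ * (S.s * g * S.s⁻¹) * ((S.s * S.s)⁻¹)⁻¹ = S.s⁻¹ * g * S.s by group] at h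

theorem wm_conj_tor {d : G} (hd : d ∈ R.tor) : S.A wm * d * (S.A wm)⁻¹ ∈ R.tor := by
  have h : R.tor ≤ R.tor.comap (MulAut.conj (S.A wm)).toMonoidHom := by
    refine (Subgroup.closure_le _).mpr ?_
    rintro x (rfl | rfl)
    · show S.A wm * S.A (dg S.ω) * (S.A wm)⁻¹ ∈ R.tor
      rw [← map_inv S.A wm, ← map_mul, ← map_mul, eq_inv_of_mul_eq_one_left (wm_dg S.ω), map_inv]
      exact inv_mem (R.dg_mem_tor _)
    · show S.A wm * S.b * (S.A wm)⁻¹ ∈ R.tor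
      have h := R.e2b
      rw [map_mul, mul_inv_eq_iff_eq_mul] at h
      have e : S.A wm * S.b * (S.A wm)⁻¹ = (S.A (dg (S.ω / S.ω ^ q)))⁻¹ * S.b := by
        rw [mul_inv_eq_iff_eq_mul, mul_assoc, h]; group
      rw [e]
      exact mul_mem (inv_mem (R.dg_mem_tor _)) R.b_mem
  exact h hd

theorem wm_sq_mem : S.A wm * S.A wm ∈ R.tor := by
  rw [← map_mul, wm_sq]; exact R.dg_mem_tor _

theorem wm_inv_conj_tor {d : G} (hd : d ∈ R.tor) : (S.A wm)⁻¹ * d * S.A wm ∈ R.tor := by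
  rw [show (S.A wm)⁻¹ * d * S.A wm =
    (S.A wm * S.A wm)⁻¹ * (S.A wm * d * (S.A wm)⁻¹) * (S.A wm * S.A wm) by group]
  exact mul_mem (mul_mem (inv_mem R.wm_sq_mem) (R.wm_conj_tor hd)) R.wm_sq_mem

theorem wm_y (c : F) : S.A wm * S.y c * (S.A wm)⁻¹ = S.y (-(c ^ q)) := by
  have key : ∀ c, ∃ c', S.A wm * S.y c * (S.A wm)⁻¹ = S.y c' := by
    let T : AddSubgroup F :=
      { carrier := {c | ∃ c', S.A wm * S.y c * (S.A wm)⁻¹ = S.y c'}
        zero_mem' := ⟨0, by simp [S.y_zero]⟩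
        add_mem' := by
          rintro c d ⟨c', hc⟩ ⟨d', hd⟩
          exact ⟨c' + d', by rw [S.y_add, S.y_add, ← hc, ← hd]; group⟩
        neg_mem' := by
          rintro c ⟨c', hc⟩
          exact ⟨-c', by rw [R.y_neg, R.y_neg, ← hc]; group⟩ }
    refine fun c => add_closure_sq T (fun t ht => ?_) c
    have htq := pow_ne_zero q ht
    obtain ⟨g, hg, eg⟩ := R.exists_tor ht htq (by rw [norm_pow_q S.hF])
    obtain ⟨u₁, u₂, k₁, k₂, -, eu⟩ := R.θ_tor (R.wm_conj_tor hg)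
    refine ⟨u₁ * u₂ ^ q * (-1), ?_⟩
    have h1 := R.conj_y_eq hg ht htq eg 1
    rw [pow_q_q S.hF, mul_one] at h1
    rw [← R.conj_y_eq (R.wm_conj_tor hg) k₁ k₂ eu, ← R.e10, ← h1]
    group
  obtain ⟨c', hc'⟩ := key c
  have h1 := S.θ_conj (g := S.A wm) (x := S.y c) (M := Qmat q S.δ 0 (-(c ^ q)) 0)
    (by rw [S.θ_A, S.θ_y, wm_Qmat S.hF])
  rw [hc', S.θ_y] at h1
  rw [hc', (Qmat_inj S.δ_ne h1).2.1]

theorem y_comm_z2w (c : F) {w : G} (hw : w ∈ S.zw) :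
    Commute (S.y c) (S.A wm * w * (S.A wm)⁻¹) := by
  have h := ((R.Zw_comm hw (-(c ^ q))).2.symm).map (MulAut.conj (S.A wm))
  rw [MulAut.conj_apply, MulAut.conj_apply, R.wm_y, neg_pow_q S.hF, pow_q_q S.hF, neg_neg] at h
  exact h

theorem z2_comm_z : Commute S.z S.z2 := by
  have hz2 : S.z2 = S.A wm * S.z * (S.A wm)⁻¹ := rfl
  have h1 := ((hz2 ▸ R.y_comm_z2w S.ε R.z_mem_Zw : Commute (S.y S.ε) S.z2)).map
    (MulAut.conj (S.A (up 1)))
  rw [MulAut.conj_apply, MulAut.conj_apply, R.e11] at h1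
  have e : S.A (up 1) * S.y S.ε * (S.A (up 1))⁻¹ = S.z * S.y S.ε := by
    rw [Setting.z, Setting.ψ, one_mul]; group
  rw [e] at h1
  have hy : Commute (S.y S.ε) (S.z2 * S.y 1 * S.z) := by
    refine ((hz2 ▸ R.y_comm_z2w S.ε R.z_mem_Zw : Commute (S.y S.ε) S.z2).mul_right ?_).mul_right
      (R.z_comm_y S.ε).symm
    show S.y S.ε * S.y 1 = S.y 1 * S.y S.ε
    rw [← S.y_add, ← S.y_add, add_comm]
  have h2 : Commute S.z (S.z2 * S.y 1 * S.z) := by simpa using h1.mul_left hy.inv_left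
  have h3 : Commute S.z (S.y 1 * S.z) := (R.z_comm_y 1).mul_right (Commute.refl _)
  rw [mul_assoc] at h2
  have h4 := h2.mul_right h3.inv_right
  rwa [mul_inv_cancel_right] at h4

theorem tor_z2w {d : G} (hd : d ∈ R.tor) {w : G} (hw : w ∈ S.zw) :
    ∃ w' ∈ S.zw, d * (S.A wm * w * (S.A wm)⁻¹) * d⁻¹ = S.A wm * w' * (S.A wm)⁻¹ :=
  ⟨_, R.Zw_tor (R.wm_inv_conj_tor hd) hw, by group⟩

theorem Zw_comm_z2w {w v : G} (hw : w ∈ S.zw) (hv : v ∈ S.zw) :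
    Commute w (S.A wm * v * (S.A wm)⁻¹) := by
  have hF := S.hF
  have mkT : ∀ P : G → Prop, P 1 → (∀ x y, P x → P y → P (x * y)) → (∀ x, P x → P x⁻¹) →
      (∀ t : F, t ^ q = t → t ≠ 0 → P (S.ψ (t * t))) → ∀ r : F, r ^ q = r → P (S.ψ r) := by
    intro P h1 hm hi hsq r hr
    exact fixed_closure_sq hF
      { carrier := {r | P (S.ψ r)}
        zero_mem' := by show P _; rw [R.ψ_zero]; exact h1
        add_mem' := fun {a b} ha hb => by show P _; rw [R.ψ_add]; exact hm _ _ ha hb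
        neg_mem' := fun {a} ha => by
          show P _
          rw [eq_inv_of_mul_eq_one_left (a := S.ψ (-a)) (b := S.ψ a)
            (by rw [← R.ψ_add, neg_add_cancel, R.ψ_zero])]
          exact hi _ ha } hsq hr
  have hψ1 : ∀ r : F, r ^ q = r → Commute S.z (S.A wm * S.ψ r * (S.A wm)⁻¹) := by
    refine mkT (fun x => Commute S.z (S.A wm * x * (S.A wm)⁻¹)) (by simp)
      (fun x y hx hy => by
        show Commute _ _
        rw [show S.A wm * (x * y) * (S.A wm)⁻¹ =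
          S.A wm * x * (S.A wm)⁻¹ * (S.A wm * y * (S.A wm)⁻¹) by group]
        exact Commute.mul_right hx hy)
      (fun x hx => by
        show Commute _ _
        rw [show S.A wm * x⁻¹ * (S.A wm)⁻¹ = (S.A wm * x * (S.A wm)⁻¹)⁻¹ by group]
        exact Commute.inv_right hx) (fun t ht ht0 => ?_)
    obtain ⟨g, hg, eg⟩ := R.exists_tor one_ne_zero ht0 (by rw [one_mul, ht])
    set g' := (S.A wm)⁻¹ * g * S.A wm
    have hg' : g' ∈ R.tor := R.wm_inv_conj_tor hg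
    have eg' : S.θ g' = Dmat q t 1 := by
      obtain ⟨u₁, u₂, -, -, -, eu⟩ := R.θ_tor hg'
      have e := congrArg S.θ (show S.A wm * g' = g * S.A wm by simp [g', mul_assoc])
      rw [map_mul S.θ (S.A wm) g', map_mul S.θ g (S.A wm), eu, eg, S.θ_A, Lmat_wm hF] at e
      have a01 := congrFun (congrFun e 0) 1
      have a10 := congrFun (congrFun e 1) 0
      simp [Dmat, Matrix.mul_apply, Fin.sum_univ_four] at a01 a10
      rw [eu, a01, a10]
    have h := (R.z2_comm_z).map (MulAut.conj g)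
    rw [MulAut.conj_apply, MulAut.conj_apply, (R.z_fixed hg eg).eq, mul_inv_cancel_right] at h
    obtain ⟨k, hk, ez⟩ := R.z_conj_pow hg' eg'
    rw [R.a_pow_z] at ez
    have ek : ((S.ω : F) * (S.ω : F) ^ q) ^ k = t * t := by
      rw [mul_pow, pow_right_comm, hk, ht]
    rw [ek] at ez
    have e2 : g * S.z2 * g⁻¹ = S.A wm * S.ψ (t * t) * (S.A wm)⁻¹ := by
      rw [← ez]; simp [g', Setting.z2, mul_assoc]
    rw [e2] at h
    exact h
  obtain ⟨r', hr', rfl⟩ := R.Zw_form hv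
  obtain ⟨r, hr, rfl⟩ := R.Zw_form hw
  clear hv hw
  revert r'
  refine fun r' hr' => mkT (fun x => Commute x (S.A wm * S.ψ r' * (S.A wm)⁻¹))
    (Commute.one_left _) (fun x y => Commute.mul_left) (fun x => Commute.inv_left) (fun t ht ht0 => ?_)
    r hr
  obtain ⟨g, hg, eg⟩ := R.exists_tor ht0 one_ne_zero (by rw [mul_one, ht])
  obtain ⟨k, hk, ez⟩ := R.z_conj_pow hg eg
  rw [R.a_pow_z] at ez
  have ek : ((S.ω : F) * (S.ω : F) ^ q) ^ k = t * t := by rw [mul_pow, pow_right_comm, hk, ht]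
  rw [ek] at ez
  obtain ⟨v', hv', ev'⟩ := R.tor_z2w (inv_mem hg) (R.ψ_mem r')
  obtain ⟨s', hs', rfl⟩ := R.Zw_form hv'
  have h := (hψ1 s' hs').map (MulAut.conj g)
  rw [MulAut.conj_apply, MulAut.conj_apply, ez, ← ev', inv_inv] at h
  simpa [mul_assoc] using h

/-- The abelian radical. -/
def qrad : Subgroup G where
  carrier := {g | ∃ c, ∃ w ∈ S.zw, ∃ v ∈ S.zw, g = S.y c * w * (S.A wm * v * (S.A wm)⁻¹)}
  one_mem' := ⟨0, 1, one_mem _, 1, one_mem _, by simp [S.y_zero]⟩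
  mul_mem' := by
    rintro _ _ ⟨c, w, hw, v, hv, rfl⟩ ⟨c', w', hw', v', hv', rfl⟩
    refine ⟨c + c', w * w', mul_mem hw hw', v * v', mul_mem hv hv', ?_⟩
    have h1 := (R.y_comm_z2w c' hv).eq
    have h2 := (R.Zw_comm_z2w hw' hv).eq
    have h3 := (R.Zw_comm hw c').2.eq
    set V := S.A wm * v * (S.A wm)⁻¹
    set V' := S.A wm * v' * (S.A wm)⁻¹
    have e : S.A wm * (v * v') * (S.A wm)⁻¹ = V * V' := by simp [V, V', mul_assoc]
    calc S.y c * w * V * (S.y c' * w' * V') = S.y c * w * (V * S.y c') * (w' * V') := by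
          simp only [mul_assoc]
      _ = S.y c * (w * S.y c') * (V * w') * V' := by rw [← h1]; simp only [mul_assoc]
      _ = _ := by rw [h3, ← h2, e, S.y_add]; simp only [mul_assoc]
  inv_mem' := by
    rintro _ ⟨c, w, hw, v, hv, rfl⟩
    refine ⟨-c, w⁻¹, inv_mem hw, v⁻¹, inv_mem hv, ?_⟩
    have h1 : Commute (S.A wm * v * (S.A wm)⁻¹) (S.y c * w) :=
      (R.y_comm_z2w c hv).symm.mul_right (R.Zw_comm_z2w hw hv).symm
    rw [← h1.eq, _root_.mul_inv_rev, _root_.mul_inv_rev (S.y c), ← (((R.Zw_comm hw c).2).inv_inv).symm.eq,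
      R.y_neg, show S.A wm * v⁻¹ * (S.A wm)⁻¹ = (S.A wm * v * (S.A wm)⁻¹)⁻¹ by group]

theorem y_mem_qrad (c : F) : S.y c ∈ R.qrad :=
  ⟨c, 1, one_mem _, 1, one_mem _, by simp⟩

theorem Zw_mem_qrad {w : G} (hw : w ∈ S.zw) : w ∈ R.qrad :=
  ⟨0, w, hw, 1, one_mem _, by simp [S.y_zero]⟩

theorem z2w_mem_qrad {v : G} (hv : v ∈ S.zw) : S.A wm * v * (S.A wm)⁻¹ ∈ R.qrad :=
  ⟨0, 1, one_mem _, v, hv, by simp [S.y_zero]⟩

theorem tor_qrad {d g : G} (hd : d ∈ R.tor) (hg : g ∈ R.qrad) : d * g * d⁻¹ ∈ R.qrad := by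
  obtain ⟨c, w, hw, v, hv, rfl⟩ := hg
  obtain ⟨t₁, t₂, h₁, h₂, -, e⟩ := R.θ_tor hd
  obtain ⟨v', hv', ev⟩ := R.tor_z2w hd hv
  rw [show d * (S.y c * w * (S.A wm * v * (S.A wm)⁻¹)) * d⁻¹ = (d * S.y c * d⁻¹) * (d * w * d⁻¹)
    * (d * (S.A wm * v * (S.A wm)⁻¹) * d⁻¹) by group, R.conj_y_eq hd h₁ h₂ e, ev]
  exact mul_mem (mul_mem (R.y_mem_qrad _) (R.Zw_mem_qrad (R.Zw_tor hd hw))) (R.z2w_mem_qrad hv')

theorem up_z2w (c : F) {v : G} (hv : v ∈ S.zw) :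
    S.A (up c) * (S.A wm * v * (S.A wm)⁻¹) * (S.A (up c))⁻¹ ∈ R.qrad := by
  have hF := S.hF
  have hy : ∀ a e : F, S.A (up a) * S.y e * (S.A (up a))⁻¹ ∈ R.qrad := fun a e => by
    rw [show S.A (up a) * S.y e * (S.A (up a))⁻¹ =
      (S.A (up a) * S.y e * (S.A (up a))⁻¹ * (S.y e)⁻¹) * S.y e by group]
    exact mul_mem (R.Zw_mem_qrad (R.comm_up_y_mem a e)) (R.y_mem_qrad e)
  have hz : ∀ a : F, ∀ w ∈ S.zw, S.A (up a) * w * (S.A (up a))⁻¹ ∈ R.qrad := fun a w hw => by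
    rw [← (R.Zw_comm hw a).1.eq, mul_inv_cancel_right]; exact R.Zw_mem_qrad hw
  -- at the element `up 1`
  have h1 : ∀ r : F, r ^ q = r →
      S.A (up 1) * (S.A wm * S.ψ r * (S.A wm)⁻¹) * (S.A (up 1))⁻¹ ∈ R.qrad := by
    intro r hr
    refine fixed_closure_sq hF
      { carrier := {r | S.A (up 1) * (S.A wm * S.ψ r * (S.A wm)⁻¹) * (S.A (up 1))⁻¹ ∈ R.qrad}
        zero_mem' := by show _ ∈ R.qrad; simp [R.ψ_zero]
        add_mem' := fun {a b} ha hb => by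
          show _ ∈ R.qrad
          rw [R.ψ_add, show S.A (up 1) * (S.A wm * (S.ψ a * S.ψ b) * (S.A wm)⁻¹) * (S.A (up 1))⁻¹ =
            (S.A (up 1) * (S.A wm * S.ψ a * (S.A wm)⁻¹) * (S.A (up 1))⁻¹)
              * (S.A (up 1) * (S.A wm * S.ψ b * (S.A wm)⁻¹) * (S.A (up 1))⁻¹) by group]
          exact mul_mem ha hb
        neg_mem' := fun {a} ha => by
          show _ ∈ R.qrad
          rw [eq_inv_of_mul_eq_one_left (a := S.ψ (-a)) (b := S.ψ a)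
            (by rw [← R.ψ_add, neg_add_cancel, R.ψ_zero]),
            show S.A (up 1) * (S.A wm * (S.ψ a)⁻¹ * (S.A wm)⁻¹) * (S.A (up 1))⁻¹ =
            (S.A (up 1) * (S.A wm * S.ψ a * (S.A wm)⁻¹) * (S.A (up 1))⁻¹)⁻¹ by group]
          exact Subgroup.inv_mem _ ha } (fun t ht ht0 => ?_) hr
    show _ ∈ R.qrad
    obtain ⟨g, hg, eg⟩ := R.exists_tor ht0 ht0 (by rw [mul_pow, ht])
    have hbase : S.A (up 1) * S.z2 * (S.A (up 1))⁻¹ ∈ R.qrad := by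
      rw [R.e11]
      exact mul_mem (mul_mem (R.z2w_mem_qrad R.z_mem_Zw) (R.y_mem_qrad 1))
        (R.Zw_mem_qrad R.z_mem_Zw)
    have h := R.tor_qrad hg hbase
    set g' := (S.A wm)⁻¹ * g * S.A wm
    have hg' : g' ∈ R.tor := R.wm_inv_conj_tor hg
    have eg' : S.θ g' = Dmat q t t := by
      obtain ⟨u₁, u₂, -, -, -, eu⟩ := R.θ_tor hg'
      have e := congrArg S.θ (show S.A wm * g' = g * S.A wm by simp [g', mul_assoc])
      rw [map_mul S.θ (S.A wm) g', map_mul S.θ g (S.A wm), eu, eg, S.θ_A, Lmat_wm hF] at e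
      have a01 := congrFun (congrFun e 0) 1
      have a10 := congrFun (congrFun e 1) 0
      simp [Dmat, Matrix.mul_apply, Fin.sum_univ_four] at a01 a10
      rw [eu, a01, a10]
    have e2 : g * S.z2 * g⁻¹ = S.A wm * S.ψ (t * t) * (S.A wm)⁻¹ := by
      have e3 := R.ψ_conj hg' ht ht0 eg' 1
      rw [mul_one] at e3
      rw [← e3]; simp [g', Setting.z2, Setting.z, mul_assoc]
    rw [show g * (S.A (up 1) * S.z2 * (S.A (up 1))⁻¹) * g⁻¹ =
      (g * S.A (up 1) * g⁻¹) * (g * S.z2 * g⁻¹) * (g * S.A (up 1) * g⁻¹)⁻¹ by group,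
      R.conj_up_eq hg ht0 ht0 eg, div_self ht0, one_mul, e2] at h
    exact h
  have hconj : ∀ a : F, (∀ v ∈ S.zw, S.A (up a) * (S.A wm * v * (S.A wm)⁻¹) * (S.A (up a))⁻¹ ∈ R.qrad) →
      ∀ g ∈ R.qrad, S.A (up a) * g * (S.A (up a))⁻¹ ∈ R.qrad := by
    rintro a ha _ ⟨e, w, hw, v', hv', rfl⟩
    rw [show S.A (up a) * (S.y e * w * (S.A wm * v' * (S.A wm)⁻¹)) * (S.A (up a))⁻¹ =
      (S.A (up a) * S.y e * (S.A (up a))⁻¹) * (S.A (up a) * w * (S.A (up a))⁻¹)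
        * (S.A (up a) * (S.A wm * v' * (S.A wm)⁻¹) * (S.A (up a))⁻¹) by group]
    exact mul_mem (mul_mem (hy a e) (hz a w hw)) (ha v' hv')
  let T : AddSubgroup F :=
    { carrier := {a | ∀ v ∈ S.zw,
        S.A (up a) * (S.A wm * v * (S.A wm)⁻¹) * (S.A (up a))⁻¹ ∈ R.qrad ∧
        S.A (up (-a)) * (S.A wm * v * (S.A wm)⁻¹) * (S.A (up (-a)))⁻¹ ∈ R.qrad}
      zero_mem' := fun v hv => by
        rw [neg_zero, up_zero, map_one, inv_one, one_mul, mul_one]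
        exact ⟨R.z2w_mem_qrad hv, R.z2w_mem_qrad hv⟩
      add_mem' := fun {a b} ha hb v hv => by
        constructor
        · rw [up_add, map_mul]
          simpa [mul_assoc] using hconj a (fun v hv => (ha v hv).1) _ (hb v hv).1
        · rw [neg_add, up_add, map_mul]
          simpa [mul_assoc] using hconj (-a) (fun v hv => (ha v hv).2) _ (hb v hv).2
      neg_mem' := fun {a} ha v hv => by rw [neg_neg]; exact (ha v hv).symm }
  have hsq : ∀ t : F, t ≠ 0 → ∀ v ∈ S.zw,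
      S.A (up (t * t)) * (S.A wm * v * (S.A wm)⁻¹) * (S.A (up (t * t)))⁻¹ ∈ R.qrad := by
    intro t ht v hv
    have htor := R.dg_mem_tor (Units.mk0 t ht)
    have eθ : S.θ (S.A (dg (Units.mk0 t ht))) = Dmat q t t⁻¹ := by
      rw [S.θ_A, Lmat_dg hF, Units.val_mk0]
    set g := S.A (dg (Units.mk0 t ht))
    obtain ⟨v', hv', ev'⟩ := R.tor_z2w (inv_mem htor) hv
    obtain ⟨r, hr, rfl⟩ := R.Zw_form hv'
    have h := R.tor_qrad htor (h1 r hr)
    rw [← ev', inv_inv] at h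
    rw [show t * t = t / t⁻¹ * 1 by field_simp, ← R.conj_up_eq htor ht (inv_ne_zero ht) eθ]
    simpa [mul_assoc] using h
  have hneg : ∀ a : F, (∀ v ∈ S.zw,
      S.A (up a) * (S.A wm * v * (S.A wm)⁻¹) * (S.A (up a))⁻¹ ∈ R.qrad) → ∀ n : ℕ, ∀ v ∈ S.zw,
      S.A (up ((n : F) * a)) * (S.A wm * v * (S.A wm)⁻¹) * (S.A (up ((n : F) * a)))⁻¹ ∈ R.qrad := by
    intro a ha n
    induction n with
    | zero => intro v hv; simpa [up_zero] using R.z2w_mem_qrad hv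
    | succ n ih =>
      intro v hv
      rw [show ((n + 1 : ℕ) : F) * a = a + (n : F) * a by push_cast; ring, up_add, map_mul]
      simpa [mul_assoc] using hconj a ha _ (ih v hv)
  have hall : c ∈ T := add_closure_sq T (fun t ht v hv => by
    refine ⟨hsq t ht v hv, ?_⟩
    obtain ⟨p, hp⟩ := CharP.exists F
    haveI := hp
    have hp0 : p ≠ 0 := (CharP.char_is_prime F p).ne_zero
    have := hneg (t * t) (hsq t ht) (p - 1) v hv
    rwa [Nat.cast_sub (by omega), CharP.cast_eq_zero, Nat.cast_one, zero_sub, neg_one_mul] at this) c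
  exact (hall v hv).1

theorem wm_qrad {g : G} (hg : g ∈ R.qrad) : S.A wm * g * (S.A wm)⁻¹ ∈ R.qrad := by
  obtain ⟨c, w, hw, v, hv, rfl⟩ := hg
  rw [show S.A wm * (S.y c * w * (S.A wm * v * (S.A wm)⁻¹)) * (S.A wm)⁻¹ =
    (S.A wm * S.y c * (S.A wm)⁻¹) * (S.A wm * w * (S.A wm)⁻¹)
      * (S.A wm * S.A wm * v * (S.A wm * S.A wm)⁻¹) by group, R.wm_y]
  exact mul_mem (mul_mem (R.y_mem_qrad _) (R.z2w_mem_qrad hw))
    (R.Zw_mem_qrad (R.Zw_tor R.wm_sq_mem hv))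

theorem up_qrad (c : F) {g : G} (hg : g ∈ R.qrad) :
    S.A (up c) * g * (S.A (up c))⁻¹ ∈ R.qrad := by
  obtain ⟨e, w, hw, v, hv, rfl⟩ := hg
  rw [show S.A (up c) * (S.y e * w * (S.A wm * v * (S.A wm)⁻¹)) * (S.A (up c))⁻¹ =
    (S.A (up c) * S.y e * (S.A (up c))⁻¹ * (S.y e)⁻¹) * S.y e * (S.A (up c) * w * (S.A (up c))⁻¹)
      * (S.A (up c) * (S.A wm * v * (S.A wm)⁻¹) * (S.A (up c))⁻¹) by group,
    ← (R.Zw_comm hw c).1.eq, mul_inv_cancel_right]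
  exact mul_mem (mul_mem (mul_mem (R.Zw_mem_qrad (R.comm_up_y_mem c e)) (R.y_mem_qrad e))
    (R.Zw_mem_qrad hw)) (R.up_z2w c hv)

theorem levi_qrad {l : G} (hl : l ∈ S.A.range ⊔ R.tor) {g : G} (hg : g ∈ R.qrad) :
    l * g * l⁻¹ ∈ R.qrad := by
  obtain ⟨k, d, hd, rfl⟩ := R.levi_form hl
  rw [show S.A k * d * g * (S.A k * d)⁻¹ = S.A k * (d * g * d⁻¹) * (S.A k)⁻¹ by group]
  have hh := R.tor_qrad hd hg
  generalize d * g * d⁻¹ = g' at hh
  rcases sl_cases k with ⟨c, t, rfl⟩ | ⟨c, e, t, rfl⟩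
  · have := R.up_qrad c (R.tor_qrad (R.dg_mem_tor t) hh)
    simpa [mul_assoc] using this
  · have := R.up_qrad c (R.wm_qrad (R.up_qrad e (R.tor_qrad (R.dg_mem_tor t) hh)))
    simpa [mul_assoc] using this

theorem levi_tor {d : G} (hd : d ∈ R.tor) : d ∈ S.A.range ⊔ R.tor := Subgroup.mem_sup_right hd

theorem A_levi (k : SL2) : S.A k ∈ S.A.range ⊔ R.tor := Subgroup.mem_sup_left ⟨k, rfl⟩

/-- The parabolic subgroup. -/
def par : Subgroup G where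
  carrier := {g | ∃ x ∈ R.qrad, ∃ l ∈ S.A.range ⊔ R.tor, g = x * l}
  one_mem' := ⟨1, one_mem _, 1, one_mem _, by simp⟩
  mul_mem' := by
    rintro _ _ ⟨x, hx, l, hl, rfl⟩ ⟨x', hx', l', hl', rfl⟩
    exact ⟨x * (l * x' * l⁻¹), mul_mem hx (R.levi_qrad hl hx'), l * l', mul_mem hl hl', by group⟩
  inv_mem' := by
    rintro _ ⟨x, hx, l, hl, rfl⟩
    exact ⟨l⁻¹ * x⁻¹ * l⁻¹⁻¹, R.levi_qrad (inv_mem hl) (inv_mem hx), l⁻¹, inv_mem hl, by group⟩

theorem qrad_par {g : G} (hg : g ∈ R.qrad) : g ∈ R.par := ⟨g, hg, 1, one_mem _, by simp⟩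

theorem levi_par {g : G} (hg : g ∈ S.A.range ⊔ R.tor) : g ∈ R.par := ⟨1, one_mem _, g, hg, by simp⟩

theorem θ_levi {l : G} (hl : l ∈ S.A.range ⊔ R.tor) :
    S.θ l 0 2 = 0 ∧ S.θ l 0 3 = 0 ∧ S.θ l 1 3 = 0 ∧ S.θ l 2 0 = 0 ∧ S.θ l 2 1 = 0 ∧
      S.θ l 3 0 = 0 ∧ S.θ l 3 1 = 0 := by
  obtain ⟨k, d, hd, rfl⟩ := R.levi_form hl
  obtain ⟨t₁, t₂, -, -, -, ht⟩ := R.θ_tor hd
  rw [map_mul, S.θ_A, ht]
  refine ⟨?_, ?_, ?_, ?_, ?_, ?_, ?_⟩ <;>
    simp [Lmat, Dmat, Matrix.mul_apply, Fin.sum_univ_four]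

theorem θ_qrad {g : G} (hg : g ∈ R.qrad) : ∃ c r r' : F, r ^ q = r ∧ r' ^ q = r' ∧
    g = S.y c * S.ψ r * (S.A wm * S.ψ r' * (S.A wm)⁻¹) ∧ S.θ g = Qmat q S.δ r c r' := by
  obtain ⟨c, w, hw, v, hv, rfl⟩ := hg
  obtain ⟨r, hr, rfl⟩ := R.Zw_form hw
  obtain ⟨r', hr', rfl⟩ := R.Zw_form hv
  refine ⟨c, r, r', hr, hr', rfl, ?_⟩
  have e := S.θ_conj (g := S.A wm) (x := S.ψ r') (M := Qmat q S.δ 0 0 r')
    (by rw [S.θ_A, S.θ_ψ hr', wm_Qmat S.hF, zero_pow (q_ne_zero S.hF), neg_zero])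
  rw [map_mul, map_mul, e, S.θ_y, S.θ_ψ hr, Qmat_mul S.hF, Qmat_mul S.hF]
  congr 1 <;> ring

theorem par_inj {g : G} (hg : g ∈ R.par) (h : S.θ g = 1) : g = 1 := by
  obtain ⟨x, hx, l, hl, rfl⟩ := hg
  obtain ⟨c, r, r', -, -, ex, eθ⟩ := R.θ_qrad hx
  have hl' : S.θ l = S.θ x⁻¹ := by
    rw [← one_mul (S.θ l), ← S.θ_inv_mul x, mul_assoc, ← map_mul, h, mul_one]
  obtain ⟨c', s₁, s₂, -, -, -, eθ'⟩ := R.θ_qrad (inv_mem hx)
  have hh := R.θ_levi hl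
  rw [hl', eθ'] at hh
  simp [Qmat, S.δ_ne] at hh
  obtain ⟨rfl, rfl, rfl⟩ := hh
  have h1 : S.θ x * S.θ x⁻¹ = 1 := by rw [← map_mul, mul_inv_cancel, map_one]
  rw [eθ, eθ', Qmat_mul S.hF, add_zero, add_zero, add_zero, ← Qmat_zero (q := q) (δ := S.δ) S.hF]
    at h1
  obtain ⟨rfl, rfl, rfl⟩ := Qmat_inj S.δ_ne h1
  have hx1 : x = 1 := by rw [ex]; simp [S.y_zero, R.ψ_zero]
  rw [hx1, one_mul] at h ⊢
  exact R.levi_inj hl h

end Rels

end Cfsg.Agent.H68.ShortU4
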