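import Cfsg.Agent.H68.ShortU4.Mat

/-!
The torus of a group satisfying the relations of the short presentation of `SU₄(q)`, and its
action on the Levi group.
-/

set_option autoImplicit false
set_option linter.unusedSectionVars false

namespace Cfsg.Agent.H68.ShortU4

open Matrix Cfsg.Agent.Unitary Cfsg.Agent.H99.ShortPres

variable {F : Type*} [Field F] [Fintype F] {q : ℕ} {G : Type*} [Group G]

local notation "SL2" => Matrix.SpecialLinearGroup (Fin 2) F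
local notation "M4" => Matrix (Fin 4) (Fin 4) F

/-- A homomorphism on `SL₂(q²)` and one further element, over the matrix model. -/
structure Setting (F : Type*) [Field F] [Fintype F] (q : ℕ) (G : Type*) [Group G] where
  hF : Fintype.card F = q ^ 2
  θ : G →* Matrix (Fin 4) (Fin 4) F
  A : Matrix.SpecialLinearGroup (Fin 2) F →* G
  s : G
  δ : F
  ε : F
  ω : Fˣ
  δ_ne : δ ≠ 0
  δ_skew : δ ^ q = -δ
  ε_tr : ε + ε ^ q = 1
  ω_gen : ∀ u : Fˣ, u ∈ Subgroup.zpowers ω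
  θ_A : ∀ g, θ (A g) = Lmat q g
  θ_s : θ s = Smat δ

namespace Setting

variable (S : Setting F q G)

/-- The torus element of the Levi group. -/
def a : G := S.A (dg S.ω)

/-- Its conjugate by the reflection. -/
def b : G := S.s * S.a * S.s⁻¹

/-- The short root elements of the radical. -/
def y (c : F) : G := S.s * S.A (up c) * S.s⁻¹

/-- Commutators giving the long root elements. -/
def ψ (r : F) : G :=
  S.A (up 1) * S.y (r * S.ε) * (S.A (up 1))⁻¹ * (S.y (r * S.ε))⁻¹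

/-- The long root element of the first plane. -/
def z : G := S.ψ 1

/-- The long root element of the second plane. -/
def z2 : G := S.A wm * S.z * (S.A wm)⁻¹

theorem θ_inv_mul (g : G) : S.θ g⁻¹ * S.θ g = 1 := by rw [← map_mul, inv_mul_cancel, map_one]

theorem θ_unit (g : G) : IsUnit (S.θ g) :=
  IsUnit.of_mul_eq_one (S.θ g⁻¹) (by rw [← map_mul, mul_inv_cancel, map_one])

theorem θ_conj {g x : G} {M : M4} (h : S.θ g * S.θ x = M * S.θ g) : S.θ (g * x * g⁻¹) = M := by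
  refine (S.θ_unit g).mul_left_inj.1 ?_
  rw [← map_mul, inv_mul_cancel_right, map_mul, h]

theorem θ_s_inv : S.θ S.s⁻¹ = SmatI S.δ := by
  rw [← mul_one (S.θ S.s⁻¹), ← Smat_mul_inv S.δ_ne, ← mul_assoc, ← S.θ_s, S.θ_inv_mul, one_mul]

theorem A_inj {g h : SL2} (e : S.A g = S.A h) : g = h :=
  Lmat_inj (q := q) (by rw [← S.θ_A, ← S.θ_A, e])

theorem θ_a : S.θ S.a = Dmat q (S.ω : F) (S.ω : F)⁻¹ := by rw [a, S.θ_A, Lmat_dg S.hF]

theorem θ_b : S.θ S.b = Dmat q (S.ω : F) ((S.ω : F) ^ q) := by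
  rw [b, map_mul, map_mul, S.θ_s, S.θ_s_inv, θ_a, Smat_Dmat S.hF S.δ_ne, inv_pow, inv_inv]

theorem θ_y (c : F) : S.θ (S.y c) = Qmat q S.δ 0 c 0 := by
  rw [y, map_mul, map_mul, S.θ_s, S.θ_s_inv, S.θ_A, Smat_up S.hF S.δ_ne]

theorem y_add (c d : F) : S.y (c + d) = S.y c * S.y d := by
  simp only [y, up_add, map_mul]
  group

theorem y_zero : S.y 0 = 1 := by simp [y, up_zero]

theorem θ_up_y (c d : F) :
    S.θ (S.A (up c) * S.y d * (S.A (up c))⁻¹ * (S.y d)⁻¹) =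
      Qmat q S.δ (c * d ^ q + c ^ q * d) 0 0 := by
  have h := S.θ_conj (g := S.A (up c)) (x := S.y d) (M := Qmat q S.δ (c * d ^ q + c ^ q * d) 0 0
    * Qmat q S.δ 0 d 0) (by rw [S.θ_A, S.θ_y, up_y S.hF S.δ_ne])
  refine (S.θ_unit (S.y d)).mul_left_inj.1 ?_
  rw [← map_mul, inv_mul_cancel_right, h, S.θ_y]

theorem θ_ψ {r : F} (hr : r ^ q = r) : S.θ (S.ψ r) = Qmat q S.δ r 0 0 := by
  rw [ψ, S.θ_up_y]
  congr 1
  rw [one_mul, one_pow, one_mul, mul_pow, hr, ← mul_add, add_comm (S.ε ^ q), S.ε_tr, mul_one]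

theorem θ_z : S.θ S.z = Qmat q S.δ 1 0 0 := S.θ_ψ (one_pow q)

theorem θ_z2 : S.θ S.z2 = Qmat q S.δ 0 0 1 := by
  refine S.θ_conj ?_
  rw [S.θ_A, S.θ_z, wm_Qmat S.hF, zero_pow (q_ne_zero S.hF), neg_zero]

end Setting

/-- The relations. -/
structure Rels (S : Setting F q G) : Prop where
  e0 : Commute S.s (S.a ^ (q - 1))
  e1 : Commute S.a S.b
  e2 : S.b * S.A (up 1) * S.b⁻¹ = S.A (up ((S.ω : F) / (S.ω : F) ^ q))
  e2b : S.b * S.A wm * S.b⁻¹ = S.A (dg (S.ω / S.ω ^ q) * wm)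
  e3 : ∃ i j : ℕ, S.s * S.s = S.a ^ i * S.b ^ j
  e5 : Commute S.z (S.A (up 1))
  e5' : Commute S.z (S.A (up (S.ω : F)))
  e6 : S.a * S.z * S.a⁻¹ = S.ψ ((S.ω : F) * (S.ω : F) ^ q)
  e7 : S.b * S.z * S.b⁻¹ = S.a * S.z * S.a⁻¹
  e8 : Commute S.s S.z
  e9 : Commute (S.A (up 1)) (S.y S.δ)
  e10 : S.A wm * S.y 1 * (S.A wm)⁻¹ = S.y (-1)
  e11 : S.A (up 1) * S.z2 * (S.A (up 1))⁻¹ = S.z2 * S.y 1 * S.z
  e12 : ∃ i j : ℕ, S.s * S.z2 * S.s⁻¹ = S.z2⁻¹ * S.s * (S.a ^ i * S.b ^ j) * S.z2⁻¹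
  e13 : Commute (S.s * S.A wm * S.s) (S.A wm)

/-- Squares span the field additively. -/
theorem add_closure_sq (T : AddSubgroup F) (h : ∀ t : F, t ≠ 0 → t * t ∈ T) (x : F) : x ∈ T := by
  have h' : ∀ t : F, t * t ∈ T := fun t => by
    rcases eq_or_ne t 0 with rfl | ht
    · rw [mul_zero]; exact T.zero_mem
    · exact h t ht
  obtain ⟨p, hp⟩ := CharP.exists F
  haveI : Fact p.Prime := ⟨CharP.char_is_prime F p⟩
  by_cases h2 : ringChar F = 2
  · obtain ⟨r, rfl⟩ := FiniteField.isSquare_of_char_two h2 x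
    exact h' r
  · have h20 : (2 : F) ≠ 0 := Ring.two_ne_zero h2
    have h1 : (2 : F) * (x / 2) ∈ T := by
      have e : (2 : F) * (x / 2) =
          (x / 2 + 1) * (x / 2 + 1) - (x / 2) * (x / 2) - (1 : F) * 1 := by ring
      rw [e]
      exact T.sub_mem (T.sub_mem (h' _) (h' _)) (h' 1)
    rwa [mul_div_cancel₀ x h20] at h1

namespace Rels

variable {S : Setting F q G} (R : Rels S)
include R

/-- The torus. -/
def tor (_R : Rels S) : Subgroup G := Subgroup.closure {S.a, S.b}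

theorem a_pow_period {k : ℕ} (h : ((S.ω : F)) ^ k = 1) : S.a ^ k = 1 := by
  rw [Setting.a, ← map_pow, dg_pow, show S.ω ^ k = 1 from Units.ext (by simpa using h), dg_one,
    map_one]

theorem b_pow_period {k : ℕ} (h : ((S.ω : F)) ^ k = 1) : S.b ^ k = 1 := by
  rw [Setting.b, conj_pow, R.a_pow_period h, mul_one, mul_inv_cancel]

theorem tor_form {g : G} (hg : g ∈ R.tor) : ∃ i j : ℕ, g = S.a ^ i * S.b ^ j := by
  have hn : ((S.ω : F)) ^ (Fintype.card F - 1) = 1 :=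
    FiniteField.pow_card_sub_one_eq_one _ S.ω.ne_zero
  set N := Fintype.card F - 1
  have hN : 0 < N := by have := Fintype.one_lt_card (α := F); omega
  induction hg using Subgroup.closure_induction with
  | mem g hg =>
    rcases hg with rfl | rfl
    · exact ⟨1, 0, by simp⟩
    · exact ⟨0, 1, by simp⟩
  | one => exact ⟨0, 0, by simp⟩
  | mul g g' _ _ hg hg' =>
    obtain ⟨i, j, rfl⟩ := hg
    obtain ⟨k, l, rfl⟩ := hg'
    refine ⟨i + k, j + l, ?_⟩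
    rw [pow_add, pow_add, mul_assoc, ← mul_assoc (S.b ^ j), ← (R.e1.pow_pow k j).eq]
    simp only [mul_assoc]
  | inv g _ hg =>
    obtain ⟨i, j, rfl⟩ := hg
    refine ⟨(N - 1) * i, (N - 1) * j, inv_eq_of_mul_eq_one_right ?_⟩
    have e : ∀ k, k + (N - 1) * k = N * k := fun k => by
      obtain ⟨m, hm⟩ : ∃ m, N = m + 1 := ⟨N - 1, by omega⟩
      rw [hm, Nat.add_sub_cancel]; ring
    rw [mul_assoc, ← mul_assoc (S.b ^ j), ← (R.e1.pow_pow ((N - 1) * i) j).eq, mul_assoc,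
      ← mul_assoc, ← pow_add, ← pow_add, e, e, pow_mul, pow_mul, R.a_pow_period hn,
      R.b_pow_period hn, one_pow, one_pow, mul_one]

theorem a_mem : S.a ∈ R.tor := Subgroup.subset_closure (Or.inl rfl)

theorem b_mem : S.b ∈ R.tor := Subgroup.subset_closure (Or.inr rfl)

theorem θ_ab (i j : ℕ) : S.θ (S.a ^ i * S.b ^ j) =
    Dmat q ((S.ω : F) ^ i * (S.ω : F) ^ j) ((S.ω : F)⁻¹ ^ i * ((S.ω : F) ^ q) ^ j) := by
  rw [map_mul, map_pow, map_pow, S.θ_a, S.θ_b]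
  have e : ∀ (x y : F) (k : ℕ), Dmat q x y ^ k = Dmat q (x ^ k) (y ^ k) := by
    intro x y k
    induction k with
    | zero => rw [pow_zero, pow_zero, pow_zero, Dmat_one S.hF]
    | succ k ih => rw [pow_succ, ih, Dmat_mul, pow_succ, pow_succ]
  rw [e, e, Dmat_mul]

theorem θ_tor {g : G} (hg : g ∈ R.tor) : ∃ t₁ t₂ : F, t₁ ≠ 0 ∧ t₂ ≠ 0 ∧
    (t₁ * t₂) ^ q = t₁ * t₂ ∧ S.θ g = Dmat q t₁ t₂ := by
  obtain ⟨i, j, rfl⟩ := R.tor_form hg
  have hw : (S.ω : F) ≠ 0 := S.ω.ne_zero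
  refine ⟨_, _, ?_, ?_, ?_, R.θ_ab i j⟩
  · exact mul_ne_zero (pow_ne_zero _ hw) (pow_ne_zero _ hw)
  · exact mul_ne_zero (pow_ne_zero _ (inv_ne_zero hw)) (pow_ne_zero _ (pow_ne_zero _ hw))
  · have e : (S.ω : F) ^ i * (S.ω : F) ^ j * ((S.ω : F)⁻¹ ^ i * ((S.ω : F) ^ q) ^ j) =
        ((S.ω : F) * (S.ω : F) ^ q) ^ j := by
      rw [mul_pow (S.ω : F), inv_pow]
      field_simp
    rw [e, pow_right_comm, norm_pow_q S.hF]

theorem tor_inj {g : G} (hg : g ∈ R.tor) (h : S.θ g = 1) : g = 1 := by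
  obtain ⟨i, j, rfl⟩ := R.tor_form hg
  rw [R.θ_ab, ← Dmat_one (q := q) S.hF] at h
  have h1 := congrFun (congrFun h 0) 0
  have h2 := congrFun (congrFun h 1) 1
  simp [Dmat] at h1 h2
  have hw : (S.ω : F) ≠ 0 := S.ω.ne_zero
  have h3 : (S.ω : F) ^ ((q + 1) * i) = 1 := by
    have e1 : ((S.ω : F) ^ i * (S.ω : F) ^ j) ^ q = 1 := by rw [h1, one_pow]
    rw [mul_pow, pow_right_comm _ j q] at e1
    field_simp at h2
    rw [h2, ← pow_mul, ← pow_add] at e1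
    rw [show (q + 1) * i = i * q + i by ring]
    exact e1
  have hord : ∀ k : ℕ, (S.ω : F) ^ k = 1 → q ^ 2 - 1 ∣ k := by
    intro k hk
    rw [← S.hF, ← Nat.card_eq_fintype_card, ← Nat.card_units,
      ← orderOf_eq_card_of_forall_mem_zpowers S.ω_gen, orderOf_dvd_iff_pow_eq_one]
    exact Units.ext (by simpa using hk)
  have h4 := hord _ h3
  rw [show q ^ 2 - 1 = q ^ 2 - 1 ^ 2 by simp, Nat.sq_sub_sq] at h4
  obtain ⟨m, rfl⟩ := Nat.dvd_of_mul_dvd_mul_left (by omega) h4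
  have e : S.b ^ ((q - 1) * m) = S.a ^ ((q - 1) * m) := by
    rw [Setting.b, conj_pow, pow_mul, (R.e0.pow_right m).eq, mul_inv_cancel_right]
  rw [← e, ← pow_add]
  exact R.b_pow_period (by rw [pow_add]; exact h1)

theorem exists_tor {t₁ t₂ : F} (h₁ : t₁ ≠ 0) (h₂ : t₂ ≠ 0) (h : (t₁ * t₂) ^ q = t₁ * t₂) :
    ∃ g ∈ R.tor, S.θ g = Dmat q t₁ t₂ := by
  obtain ⟨x, hx⟩ := exists_norm_eq S.hF h
  have hx0 : x ≠ 0 := by
    rintro rfl
    rw [zero_mul] at hx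
    exact mul_ne_zero h₁ h₂ hx.symm
  obtain ⟨j, hj⟩ := mem_powers_iff_mem_zpowers.2 (S.ω_gen (Units.mk0 x hx0))
  obtain ⟨i, hi⟩ := mem_powers_iff_mem_zpowers.2 (S.ω_gen (Units.mk0 (t₁ / x) (div_ne_zero h₁ hx0)))
  have hj' : (S.ω : F) ^ j = x := by simpa using congrArg Units.val hj
  have hi' : (S.ω : F) ^ i = t₁ / x := by simpa using congrArg Units.val hi
  refine ⟨S.a ^ i * S.b ^ j, mul_mem (pow_mem R.a_mem i) (pow_mem R.b_mem j), ?_⟩
  rw [R.θ_ab, pow_right_comm _ q j, inv_pow, hi', hj', div_mul_cancel₀ _ hx0]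
  congr 1
  field_simp
  linear_combination hx

theorem tor_eq {g g' : G} (hg : g ∈ R.tor) (hg' : g' ∈ R.tor) (h : S.θ g = S.θ g') : g = g' := by
  refine mul_inv_eq_one.1 (R.tor_inj (mul_mem hg (inv_mem hg')) ?_)
  rw [map_mul, h, ← map_mul, mul_inv_cancel, map_one]

theorem s_sq_mem : S.s * S.s ∈ R.tor := by
  obtain ⟨i, j, h⟩ := R.e3
  rw [h]
  exact mul_mem (pow_mem R.a_mem i) (pow_mem R.b_mem j)

theorem tor_comm {g g' : G} (hg : g ∈ R.tor) (hg' : g' ∈ R.tor) : Commute g g' := by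
  obtain ⟨i, j, rfl⟩ := R.tor_form hg
  obtain ⟨k, l, rfl⟩ := R.tor_form hg'
  exact (((Commute.refl S.a).pow_pow i k).mul_right (R.e1.pow_pow i l)).mul_left
    ((R.e1.symm.pow_pow j k).mul_right ((Commute.refl S.b).pow_pow j l))

theorem s_conj_tor {g : G} (hg : g ∈ R.tor) : S.s * g * S.s⁻¹ ∈ R.tor := by
  have h : R.tor ≤ R.tor.comap (MulAut.conj S.s).toMonoidHom := by
    refine (Subgroup.closure_le _).mpr ?_
    rintro x (rfl | rfl)
    · exact R.b_mem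
    · show S.s * (S.s * S.a * S.s⁻¹) * S.s⁻¹ ∈ R.tor
      rw [show S.s * (S.s * S.a * S.s⁻¹) * S.s⁻¹ = S.s * S.s * S.a * (S.s * S.s)⁻¹ by group,
        (R.tor_comm R.s_sq_mem R.a_mem).eq, mul_inv_cancel_right]
      exact R.a_mem
  exact h hg

theorem s_inv_conj_tor {g : G} (hg : g ∈ R.tor) : S.s⁻¹ * g * S.s ∈ R.tor := by
  rw [show S.s⁻¹ * g * S.s = (S.s * S.s)⁻¹ * (S.s * g * S.s⁻¹) * (S.s * S.s) by group]
  exact mul_mem (mul_mem (inv_mem R.s_sq_mem) (R.s_conj_tor hg)) R.s_sq_mem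

theorem a_conj_up (c : F) :
    S.a * S.A (up c) * S.a⁻¹ = S.A (up ((S.ω : F) ^ 2 * c)) := by
  rw [Setting.a, ← map_mul, dg_up, map_mul, mul_inv_cancel_right]

theorem b_conj_up (c : F) :
    S.b * S.A (up c) * S.b⁻¹ = S.A (up ((S.ω : F) / (S.ω : F) ^ q * c)) := by
  set χ := (S.ω : F) / (S.ω : F) ^ q
  let T : AddSubgroup F :=
    { carrier := {c | S.b * S.A (up c) * S.b⁻¹ = S.A (up (χ * c))}
      zero_mem' := by show _ = _; simp [up_zero]
      add_mem' := fun {c d} hc hd => by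
        show _ = _
        have hc' : S.b * S.A (up c) * S.b⁻¹ = S.A (up (χ * c)) := hc
        have hd' : S.b * S.A (up d) * S.b⁻¹ = S.A (up (χ * d)) := hd
        rw [mul_add, up_add, up_add, map_mul, map_mul, ← hc', ← hd']
        group
      neg_mem' := fun {c} hc => by
        show _ = _
        have hc' : S.b * S.A (up c) * S.b⁻¹ = S.A (up (χ * c)) := hc
        have hn : ∀ x : F, S.A (up (-x)) = (S.A (up x))⁻¹ := fun x =>
          eq_inv_of_mul_eq_one_left (by rw [← map_mul, ← up_add, neg_add_cancel, up_zero, map_one])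
        rw [mul_neg, hn, hn, ← hc']
        group }
  refine add_closure_sq T (fun t ht => ?_) c
  obtain ⟨k, hk⟩ := mem_powers_iff_mem_zpowers.2 (S.ω_gen (Units.mk0 t ht))
  have hk' : (S.ω : F) ^ k = t := by simpa using congrArg Units.val hk
  show _ = _
  rw [← hk', ← mul_pow, ← pow_two]
  clear hk hk' ht t
  induction k with
  | zero => simpa using R.e2
  | succ k ih =>
    rw [show ((S.ω : F) ^ 2) ^ (k + 1) = (S.ω : F) ^ 2 * ((S.ω : F) ^ 2) ^ k by rw [pow_succ'],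
      ← R.a_conj_up,
      show S.b * (S.a * S.A (up (((S.ω : F) ^ 2) ^ k)) * S.a⁻¹) * S.b⁻¹ =
        S.a * (S.b * S.A (up (((S.ω : F) ^ 2) ^ k)) * S.b⁻¹) * S.a⁻¹ by
        simp only [mul_assoc]
        rw [← mul_assoc S.b S.a, ← R.e1.eq, mul_assoc S.a, ← (R.e1.inv_left.inv_right).eq],
      ih, R.a_conj_up, mul_left_comm]

theorem tor_conj_up {g : G} (hg : g ∈ R.tor) (c : F) :
    ∃ c', g * S.A (up c) * g⁻¹ = S.A (up c') := by
  obtain ⟨i, j, rfl⟩ := R.tor_form hg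
  have ha : ∀ (k : ℕ) (c : F), ∃ c', S.a ^ k * S.A (up c) * (S.a ^ k)⁻¹ = S.A (up c') := by
    intro k
    induction k with
    | zero => exact fun c => ⟨c, by simp⟩
    | succ k ih =>
      intro c
      obtain ⟨c', hc'⟩ := ih c
      have h2 := R.a_conj_up c'
      refine ⟨_, Eq.trans ?_ h2⟩
      rw [← hc', pow_succ']
      group
  have hb : ∀ (k : ℕ) (c : F), ∃ c', S.b ^ k * S.A (up c) * (S.b ^ k)⁻¹ = S.A (up c') := by
    intro k
    induction k with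
    | zero => exact fun c => ⟨c, by simp⟩
    | succ k ih =>
      intro c
      obtain ⟨c', hc'⟩ := ih c
      have h2 := R.b_conj_up c'
      refine ⟨_, Eq.trans ?_ h2⟩
      rw [← hc', pow_succ']
      group
  obtain ⟨c', hc'⟩ := hb j c
  obtain ⟨c'', hc''⟩ := ha i c'
  exact ⟨c'', by rw [← hc'', ← hc']; group⟩

theorem conj_up_eq {g : G} (hg : g ∈ R.tor) {t₁ t₂ : F} (h₁ : t₁ ≠ 0) (h₂ : t₂ ≠ 0)
    (h : S.θ g = Dmat q t₁ t₂) (c : F) :
    g * S.A (up c) * g⁻¹ = S.A (up (t₁ / t₂ * c)) := by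
  obtain ⟨c', hc'⟩ := R.tor_conj_up hg c
  have h1 := S.θ_conj (g := g) (x := S.A (up c)) (M := Lmat q (up (t₁ / t₂ * c)))
    (by rw [h, S.θ_A, Dmat_up S.hF h₁ h₂])
  rw [hc', S.θ_A] at h1
  rw [hc', Lmat_inj h1]

theorem conj_y_eq {g : G} (hg : g ∈ R.tor) {t₁ t₂ : F} (h₁ : t₁ ≠ 0) (h₂ : t₂ ≠ 0)
    (h : S.θ g = Dmat q t₁ t₂) (c : F) :
    g * S.y c * g⁻¹ = S.y (t₁ * t₂ ^ q * c) := by
  obtain ⟨c', hc'⟩ := R.tor_conj_up (R.s_inv_conj_tor hg) c
  have e : g * S.y c * g⁻¹ = S.y c' := by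
    rw [Setting.y, Setting.y, ← hc']; group
  have h1 := S.θ_conj (g := g) (x := S.y c) (M := Qmat q S.δ 0 (t₁ * t₂ ^ q * c) 0)
    (by rw [h, S.θ_y, Dmat_Qmat S.hF h₁ h₂, mul_zero, mul_zero])
  rw [e, S.θ_y] at h1
  rw [e, (Qmat_inj S.δ_ne h1).2.1]

theorem tor_conj_A {g : G} (hg : g ∈ R.tor) {x : G} (hx : x ∈ S.A.range) :
    g * x * g⁻¹ ∈ S.A.range := by
  suffices h : R.tor ≤ Subgroup.normalizer (S.A.range : Set G) from
    ((Subgroup.mem_normalizer_iff.1 (h hg)) x).1 hx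
  refine (Subgroup.closure_le _).mpr ?_
  have hn : ∀ g ∈ ({S.a, S.b} : Set G), ∀ x ∈ S.A.range, g * x * g⁻¹ ∈ S.A.range := by
    rintro g (rfl | rfl) x ⟨k, rfl⟩
    · exact ⟨dg S.ω * k * (dg S.ω)⁻¹, by simp [Setting.a]⟩
    · have hd : ∀ t : Fˣ, S.b * S.A (dg t) * S.b⁻¹ = S.A (dg t) := by
        intro t
        have htor : S.A (dg t) ∈ R.tor := by
          obtain ⟨k, rfl⟩ := mem_powers_iff_mem_zpowers.2 (S.ω_gen t)
          show S.A (dg (S.ω ^ k)) ∈ R.tor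
          rw [← dg_pow, map_pow]; exact pow_mem R.a_mem k
        rw [(R.tor_comm R.b_mem htor).eq, mul_inv_cancel_right]
      have hm : ∀ y z : G, S.b * y * S.b⁻¹ ∈ S.A.range → S.b * z * S.b⁻¹ ∈ S.A.range →
          S.b * (y * z) * S.b⁻¹ ∈ S.A.range := fun y z hy hz => by
        rw [show S.b * (y * z) * S.b⁻¹ = S.b * y * S.b⁻¹ * (S.b * z * S.b⁻¹) by group]
        exact mul_mem hy hz
      have hu : ∀ c, S.b * S.A (up c) * S.b⁻¹ ∈ S.A.range := fun c =>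
        ⟨_, (R.b_conj_up c).symm⟩
      have hw : S.b * S.A wm * S.b⁻¹ ∈ S.A.range := ⟨_, R.e2b.symm⟩
      have hd' : ∀ t, S.b * S.A (dg t) * S.b⁻¹ ∈ S.A.range := fun t => ⟨_, (hd t).symm⟩
      rcases sl_cases k with ⟨c, t, rfl⟩ | ⟨c, d, t, rfl⟩
      · rw [map_mul]; exact hm _ _ (hu c) (hd' t)
      · rw [map_mul, map_mul, map_mul]
        exact hm _ _ (hm _ _ (hu c) hw) (hm _ _ (hu d) (hd' t))
  haveI : Finite S.A.range := (Set.finite_range S.A).to_subtype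
  intro g hg
  rw [SetLike.mem_coe, Subgroup.mem_normalizer_iff]
  intro x
  refine ⟨fun hx => hn g hg x hx, fun hx => ?_⟩
  let f : S.A.range → S.A.range := fun y => ⟨g * y * g⁻¹, hn g hg y y.2⟩
  have hf : Function.Injective f := fun y y' e => Subtype.ext (by
    have := congrArg Subtype.val e
    simpa [f] using this)
  obtain ⟨y, hy⟩ := (Finite.injective_iff_surjective.1 hf) ⟨_, hx⟩
  have e : (y : G) = x := by
    have := congrArg Subtype.val hy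
    simpa [f] using this
  exact e ▸ y.2

/-- The Levi group. -/
theorem levi_form {g : G} (hg : g ∈ S.A.range ⊔ R.tor) :
    ∃ k : SL2, ∃ d ∈ R.tor, g = S.A k * d := by
  have hn : R.tor ≤ Subgroup.normalizer (S.A.range : Set G) := fun d hd => by
    rw [Subgroup.mem_normalizer_iff]
    intro x
    refine ⟨fun hx => R.tor_conj_A hd hx, fun hx => ?_⟩
    have := R.tor_conj_A (inv_mem hd) hx
    simpa [mul_assoc] using this
  rw [← SetLike.mem_coe, Subgroup.coe_mul_of_right_le_normalizer_left _ _ hn] at hg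
  obtain ⟨x, ⟨k, rfl⟩, d, hd, rfl⟩ := hg
  exact ⟨k, d, hd, rfl⟩

theorem levi_inj {g : G} (hg : g ∈ S.A.range ⊔ R.tor) (h : S.θ g = 1) : g = 1 := by
  obtain ⟨k, d, hd, rfl⟩ := R.levi_form hg
  obtain ⟨t₁, t₂, h₁, h₂, -, ht⟩ := R.θ_tor hd
  rw [map_mul, S.θ_A, ht] at h
  have e00 := congrFun (congrFun h 0) 0
  have e01 := congrFun (congrFun h 0) 1
  have e10 := congrFun (congrFun h 1) 0
  have e11 := congrFun (congrFun h 1) 1
  simp [Lmat, Dmat, Matrix.mul_apply, Fin.sum_univ_four, h₁, h₂] at e00 e01 e10 e11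
  have hdet : k.1 0 0 * k.1 1 1 - k.1 0 1 * k.1 1 0 = 1 := by
    have := k.2
    rwa [Matrix.det_fin_two] at this
  rw [e01, e10, mul_zero, sub_zero] at hdet
  have hk : k = dg (Units.mk0 t₁ h₁)⁻¹ := by
    have ha : k.1 0 0 = t₁⁻¹ := eq_inv_of_mul_eq_one_left e00
    have hd' : k.1 1 1 = t₁ := by
      rw [ha] at hdet; field_simp at hdet; exact hdet
    apply SL_ext
    ext i j
    fin_cases i <;> fin_cases j <;> simp [dg, e01, e10, ha, hd']
  subst hk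
  have htor : S.A (dg (Units.mk0 t₁ h₁)⁻¹) ∈ R.tor := by
    obtain ⟨i, hi⟩ := mem_powers_iff_mem_zpowers.2 (S.ω_gen (Units.mk0 t₁ h₁)⁻¹)
    rw [← hi]
    show S.A (dg (S.ω ^ i)) ∈ R.tor
    rw [← dg_pow, map_pow]; exact pow_mem R.a_mem i
  refine R.tor_inj (mul_mem htor hd) ?_
  rw [map_mul, S.θ_A, ht]
  exact h

end Rels

end Cfsg.Agent.H68.ShortU4
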